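import Groth.Agent.H46.GeomSpread.Count
import Groth.Agent.Lib.GeomConn.Geometric
import Groth.Agent.S9764
import Groth.Agent.S9765
import Mathlib.AlgebraicGeometry.Fiber

/-!
# Counting components of geometric fibres: base change and consequences
-/

set_option autoImplicit false
set_option linter.style.haveILetI false
noncomputable section

universe u

open CategoryTheory CategoryTheory.Limits AlgebraicGeometry TopologicalSpace

namespace Groth.Agent.H46.GeomSpread

open Groth.Agent.Lib.GeomConn

/-- The counts of components of geometric fibres do not change under base change. -/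
theorem counts_baseChange {X Y X' Y' : Scheme.{u}} (f : X ⟶ Y) (f' : X' ⟶ Y') (g' : X' ⟶ X)
    (g : Y' ⟶ Y) (hc : IsPullback g' f' f g) (y' : Y') :
    MoreMor.nGeomIrredComp f' y' = MoreMor.nGeomIrredComp f (g y') ∧
      MoreMor.nGeomConnComp f' y' = MoreMor.nGeomConnComp f (g y') := by
  have sq := isPullback_fiberToSpecResidueField_of_isPullback hc y'
  let L := SeparableClosure (Y.residueField (g y'))
  let L' := SeparableClosure (Y'.residueField y')
  let A : CommRingCat.{u} := Y.residueField (g y')
  let p : f.fiber (g y') ⟶ Spec A := f.fiberToSpecResidueField (g y')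
  letI algL' : Algebra A L' :=
    ((algebraMap (Y'.residueField y') L').comp (g.residueFieldMap y').hom).toAlgebra
  letI : Algebra L L' :=
    (IsSepClosed.lift : L →ₐ[Y.residueField (g y')] L').toRingHom.toAlgebra
  have : IsScalarTower A L L' := IsScalarTower.of_algebraMap_eq fun a =>
    ((IsSepClosed.lift : L →ₐ[Y.residueField (g y')] L').commutes a).symm
  obtain ⟨h1, h2⟩ := counts_eq_of_sepClosed p L L'
  have hsp : sp A L' = Spec.map (CommRingCat.ofHom (algebraMap (Y'.residueField y') L')) ≫
      Spec.map (g.residueFieldMap y') := by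
    rw [← Spec.map_comp]
    congr 1
  have h3 : IsPullback
      (pullback.fst (f'.fiberToSpecResidueField y')
        (Spec.map (CommRingCat.ofHom (algebraMap (Y'.residueField y') L'))) ≫
        pullback.map _ _ _ _ g' (Spec.map (g.residueFieldMap y')) g hc.w.symm (by simp))
      (pullback.snd (f'.fiberToSpecResidueField y')
        (Spec.map (CommRingCat.ofHom (algebraMap (Y'.residueField y') L'))))
      p (sp A L') := by
    rw [hsp]
    exact (IsPullback.of_hasPullback _ _).paste_horiz sq
  obtain ⟨h4, h5⟩ := counts_eq_of_iso (h3.isoPullback : MoreMor.geomFiber f' y' ≅ fib p L')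
  exact ⟨h4.trans h1, h5.trans h2⟩

theorem irreducibleSpace_iff_nI {W : Scheme.{u}} : IrreducibleSpace ↑W ↔ nI W = 1 := by
  rw [Set.encard_eq_one]
  constructor
  · intro h
    exact ⟨Set.univ, irreducibleComponents_eq_singleton⟩
  · rintro ⟨C, hC⟩
    have hC' : C ∈ irreducibleComponents ↑W := by rw [hC]; rfl
    have huniv : C = Set.univ := Set.eq_univ_of_forall fun x => by
      have hx := irreducibleComponent_mem_irreducibleComponents x
      rw [hC] at hx
      rw [← Set.mem_singleton_iff.1 hx]
      exact mem_irreducibleComponent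
    exact (irreducibleSpace_def _).2 (by rw [Set.top_eq_univ, ← huniv]; exact hC'.1)

theorem connectedSpace_iff_nC {W : Scheme.{u}} : ConnectedSpace ↑W ↔ nC W = 1 := by
  rw [connectedSpace_iff_connectedComponent]
  constructor
  · rintro ⟨x, hx⟩
    have : Subsingleton (_root_.ConnectedComponents ↑W) := by
      refine ⟨fun a b => ?_⟩
      obtain ⟨a, rfl⟩ := ConnectedComponents.surjective_coe a
      obtain ⟨b, rfl⟩ := ConnectedComponents.surjective_coe b
      refine ((ConnectedComponents.coe_eq_coe' (x := a)).2 (show a ∈ connectedComponent x by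
        rw [hx]; trivial)).trans ((ConnectedComponents.coe_eq_coe' (x := b)).2 (show b ∈ connectedComponent x by
        rw [hx]; trivial)).symm
    exact ENat.card_eq_one_iff_unique.2 ⟨uniqueOfSubsingleton (ConnectedComponents.mk x)⟩
  · intro h
    obtain ⟨hu⟩ := ENat.card_eq_one_iff_unique.1 h
    let c := hu.default
    have hs : Subsingleton (_root_.ConnectedComponents ↑W) := Unique.instSubsingleton
    have hc : ∃ x : W, ConnectedComponents.mk x = c := ConnectedComponents.surjective_coe c
    obtain ⟨x, -⟩ := hc
    exact ⟨x, Set.eq_univ_of_forall fun w =>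
      (ConnectedComponents.coe_eq_coe' (x := w)).1 (Subsingleton.elim _ _)⟩

variable {X Y : Scheme.{u}} (f : X ⟶ Y)

theorem geometricallyIrreducible_iff_count (y : Y) :
    GeometricallyIrreducible (f.fiberToSpecResidueField y) ↔ MoreMor.nGeomIrredComp f y = 1 := by
  letI : (f.fiber y).Over (Spec (CommRingCat.of (Y.residueField y))) := ⟨f.fiberToSpecResidueField y⟩
  exact (Geometric.geometricallyIrreducible_iff_sepClosure (Y.residueField y) (f.fiber y)).trans
    irreducibleSpace_iff_nI

theorem geometricallyConnected_iff_count (y : Y) :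
    GeometricallyConnected (f.fiberToSpecResidueField y) ↔ MoreMor.nGeomConnComp f y = 1 := by
  letI : (f.fiber y).Over (Spec (CommRingCat.of (Y.residueField y))) := ⟨f.fiberToSpecResidueField y⟩
  exact (Geometric.geometricallyConnected_iff_sepClosure (Y.residueField y) (f.fiber y)).trans
    connectedSpace_iff_nC

/-- Constancy of the counts on an open piece of the closure of a point. -/
theorem exists_locallyClosed_counts [LocallyOfFiniteType f] [QuasiCompact f] (y : Y) :
    ∃ V : Set Y, V ⊆ closure {y} ∧ y ∈ V ∧
      IsOpen (Subtype.val ⁻¹' V : Set ↑(closure ({y} : Set Y))) ∧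
      ∀ y' ∈ V, MoreMor.nGeomIrredComp f y' = MoreMor.nGeomIrredComp f y ∧
        MoreMor.nGeomConnComp f y' = MoreMor.nGeomConnComp f y := by
  obtain ⟨W, i, hi, hr⟩ := exists_closedImmersion (closure {y}) isClosed_closure
  have hy : y ∈ Set.range i := hr.symm.subset (subset_closure rfl)
  obtain ⟨η, hη⟩ := hy
  have hgen : IsGenericPoint η (Set.univ : Set W) := by
    show closure {η} = Set.univ
    rw [i.isClosedEmbedding.isInducing.closure_eq_preimage_closure_image, Set.image_singleton, hη, ← hr,
      Set.preimage_range]
  have : IrreducibleSpace W := (irreducibleSpace_def _).2 hgen.isIrreducible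
  obtain ⟨V, hV, hc⟩ := exists_open_counts (pullback.snd f i) η hgen
  have hηV : η ∈ V := (hgen.mem_open_set_iff V.2).2 (by simpa using hV)
  obtain ⟨O, hO, hOV⟩ := i.isClosedEmbedding.isInducing.isOpen_iff.1 V.2
  refine ⟨i '' (V : Set W), by rw [← hr]; exact Set.image_subset_range _ _, ⟨η, hηV, hη⟩, ?_, ?_⟩
  · have : (Subtype.val ⁻¹' (i '' (V : Set W)) : Set ↑(closure ({y} : Set Y))) = Subtype.val ⁻¹' O := by
      ext ⟨z, hz⟩
      rw [← hr] at hz
      obtain ⟨w, rfl⟩ := hz
      simp only [Set.mem_preimage, i.isClosedEmbedding.injective.mem_set_image]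
      exact (Set.ext_iff.1 hOV w).symm
    rw [this]
    exact hO.preimage continuous_subtype_val
  · rintro _ ⟨w, hw, rfl⟩
    have h := hc w hw
    rw [(counts_baseChange f (pullback.snd f i) _ i (IsPullback.of_hasPullback f i) w).1,
      (counts_baseChange f (pullback.snd f i) _ i (IsPullback.of_hasPullback f i) w).2,
      (counts_baseChange f (pullback.snd f i) _ i (IsPullback.of_hasPullback f i) η).1,
      (counts_baseChange f (pullback.snd f i) _ i (IsPullback.of_hasPullback f i) η).2, hη] at h
    exact h

theorem exists_geometricallyIrreducible [IrreducibleSpace Y] [LocallyOfFiniteType f] [QuasiCompact f]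
    (h : GeometricallyIrreducible (f.fiberToSpecResidueField (genericPoint Y))) :
    ∃ V : Y.Opens, (V : Set Y).Nonempty ∧ GeometricallyIrreducible (f ∣_ V) := by
  obtain ⟨V, hV, hc⟩ := exists_open_counts f _ (genericPoint_spec Y)
  refine ⟨V, hV, (GeometricallyIrreducible.iff_geometricallyIrreducible_fiber _).2 fun v => ?_⟩
  rw [geometricallyIrreducible_iff_count,
    (counts_baseChange f (f ∣_ V) (f ⁻¹ᵁ V).ι V.ι (isPullback_morphismRestrict f V).flip v).1,
    (hc (V.ι v) v.2).1, ← geometricallyIrreducible_iff_count]
  exact h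

theorem exists_geometricallyConnected [IrreducibleSpace Y] [LocallyOfFiniteType f] [QuasiCompact f]
    (h : GeometricallyConnected (f.fiberToSpecResidueField (genericPoint Y))) :
    ∃ V : Y.Opens, (V : Set Y).Nonempty ∧ GeometricallyConnected (f ∣_ V) := by
  obtain ⟨V, hV, hc⟩ := exists_open_counts f _ (genericPoint_spec Y)
  refine ⟨V, hV, (GeometricallyConnected.iff_geometricallyConnected_fiber _).2 fun v => ?_⟩
  rw [geometricallyConnected_iff_count,
    (counts_baseChange f (f ∣_ V) (f ⁻¹ᵁ V).ι V.ι (isPullback_morphismRestrict f V).flip v).2,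
    (hc (V.ι v) v.2).2, ← geometricallyConnected_iff_count]
  exact h

end Groth.Agent.H46.GeomSpread
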