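import Groth.Agent.H46.GeomSpread.Fibre
import Groth.Agent.H56.NearGeneric.Loci
import Groth.Agent.H56.NearGeneric.Use
import Groth.Agent.H54.SectionComp

/-!
# Section components near a point
-/

set_option autoImplicit false
set_option linter.style.haveILetI false
noncomputable section

universe u

open CategoryTheory CategoryTheory.Limits AlgebraicGeometry TopologicalSpace Topology

namespace Groth.Agent.H46.GeomSpread

variable {X Y : Scheme.{u}} (f : X ⟶ Y)

theorem sep_of_isClopen {F : Type*} [TopologicalSpace F] [NoetherianSpace F] (b : F) :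
    IsClopen (connectedComponent b) := by
  classical
  have hfin : (irreducibleComponents F).Finite := NoetherianSpace.finite_irreducibleComponents
  refine ⟨isClosed_connectedComponent, ?_⟩
  have : (connectedComponent b)ᶜ =
      ⋃ C ∈ {C ∈ irreducibleComponents F | ¬ C ⊆ connectedComponent b}, C := by
    ext z
    simp only [Set.mem_compl_iff, Set.mem_iUnion, Set.mem_setOf_eq, exists_prop]
    constructor
    · exact fun hz => ⟨irreducibleComponent z,
        ⟨irreducibleComponent_mem_irreducibleComponents z, fun h => hz (h mem_irreducibleComponent)⟩,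
        mem_irreducibleComponent⟩
    · rintro ⟨C, ⟨hC, hCb⟩, hzC⟩ hz
      refine hCb ?_
      rw [connectedComponent_eq hz]
      exact hC.1.isConnected.isPreconnected.subset_connectedComponent hzC
  rw [← isClosed_compl_iff, this]
  exact (hfin.subset (Set.sep_subset _ _)).isClosed_biUnion fun C hC =>
    isClosed_of_mem_irreducibleComponents C hC.1

variable (s : Y ⟶ X)

/-- Near the generic point of an irreducible base the section components form a clopen piece. -/
theorem exists_clopen_generic [IrreducibleSpace Y] [LocallyOfFiniteType f] [QuasiCompact f]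
    (hs : s ≫ f = 𝟙 Y) (η : Y) (hη : IsGenericPoint η Set.univ) :
    ∃ (V : Y.Opens) (T₀ T₁ : Set X), η ∈ V ∧ IsClosed T₀ ∧ IsClosed T₁ ∧
      ∀ x : X, f x ∈ V → (x ∈ MoreMor.sectionComponents f s ↔ x ∈ T₀) ∧ (x ∈ T₁ ↔ x ∉ T₀) := by
  have hmem : ∀ V : Y.Opens, (V : Set Y).Nonempty → η ∈ V := fun V hV =>
    (hη.mem_open_set_iff V.2).2 (by simpa using hV)
  have hfs : ∀ y, f (s y) = y := fun y => congrArg (fun g : Y ⟶ Y => g y) hs
  have : LocallyOfFiniteType (f.fiberToSpecResidueField η) :=
    MorphismProperty.pullback_snd (P := @LocallyOfFiniteType) f (Y.fromSpecResidueField η) inferInstance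
  have : IsLocallyNoetherian (f.fiber η) :=
    LocallyOfFiniteType.isLocallyNoetherian (f.fiberToSpecResidueField η)
  have : CompactSpace ↑(f.fiber η) :=
    QuasiCompact.compactSpace_of_compactSpace (f.fiberToSpecResidueField η)
  have : IsNoetherian (f.fiber η) := {}
  obtain ⟨b, hb⟩ : ∃ b, f.fiberι η b = s η :=
    (f.range_fiberι η).ge (show s η ∈ f ⁻¹' {η} from hfs η)
  let C₀ : Set ↑(f.fiber η) := connectedComponent b
  have hC₀ : IsClopen C₀ := sep_of_isClopen b
  let T₀ := closure (f.fiberι η '' C₀)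
  let T₁ := closure (f.fiberι η '' C₀ᶜ)
  have hpre₀ : f.fiberι η ⁻¹' T₀ = C₀ := by
    rw [← (f.fiberι η).isEmbedding.closure_eq_preimage_closure_image, hC₀.1.closure_eq]
  have hpre₁ : f.fiberι η ⁻¹' T₁ = C₀ᶜ := by
    rw [← (f.fiberι η).isEmbedding.closure_eq_preimage_closure_image, hC₀.compl.1.closure_eq]
  obtain ⟨V₁, hV₁, hd⟩ := Groth.Agent.H56.NearGeneric.exists_fibre_disjoint (f := f) (T₀ ∩ T₁)
    (isClosed_closure.inter isClosed_closure) η hη (by
      rw [Set.preimage_inter, hpre₀, hpre₁, Set.inter_compl_self])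
  obtain ⟨V₂, hV₂, hu⟩ := Groth.Agent.H56.NearGeneric.exists_fibre_subset (f := f) (T₀ ∪ T₁)
    (isClosed_closure.union isClosed_closure) η hη (by
      rw [Set.preimage_union, hpre₀, hpre₁, Set.union_compl_self])
  obtain ⟨W, i, hi, hr⟩ := exists_closedImmersion T₀ isClosed_closure
  obtain ⟨V₃, hV₃, hc⟩ := exists_open_counts (i ≫ f) η hη
  -- the generic fibre of the piece is geometrically connected
  have hgen : MoreMor.nGeomConnComp (i ≫ f) η = 1 := by
    let κ := Y.residueField η
    let L := SeparableClosure κ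
    refine connectedSpace_iff_nC.1 ?_
    let j : (i ≫ f).fiber η ⟶ f.fiber η :=
      pullback.map (i ≫ f) (Y.fromSpecResidueField η) f (Y.fromSpecResidueField η) i (𝟙 _) (𝟙 _)
        (by simp) (by simp)
    have hj : j ≫ f.fiberToSpecResidueField η = (i ≫ f).fiberToSpecResidueField η := by
      show pullback.map _ _ _ _ _ _ _ _ _ ≫ pullback.snd _ _ = _
      rw [pullback.lift_snd, Category.comp_id]
      rfl
    have hjr : Set.range j = C₀ := by
      refine (Scheme.Pullback.range_map _ _ _ _ i (𝟙 _) (𝟙 _) _ _).trans ?_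
      rw [hr, ← hpre₀]
      ext z
      simp only [Set.mem_inter_iff, Set.mem_preimage]
      exact ⟨fun h => h.1, fun h => ⟨h, ⟨pullback.snd f (Y.fromSpecResidueField η) z, rfl⟩⟩⟩
    have hjp : IsPullback j ((i ≫ f).fiberι η) (f.fiberι η) i := by
      refine (IsPullback.of_bot (v₂₁ := pullback.snd f (Y.fromSpecResidueField η)) (v₂₂ := f) ?_
        (pullback.lift_fst _ _ _).symm (IsPullback.of_hasPullback f (Y.fromSpecResidueField η))).flip
      show IsPullback _ (j ≫ _) _ _
      rw [show j ≫ pullback.snd f (Y.fromSpecResidueField η) =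
        pullback.snd (i ≫ f) (Y.fromSpecResidueField η) from hj]
      exact IsPullback.of_hasPullback (i ≫ f) (Y.fromSpecResidueField η)
    have : IsPreimmersion j := MorphismProperty.of_isPullback (P := @IsPreimmersion) hjp.flip inferInstance
    let h : Spec κ ⟶ f.fiber η :=
      pullback.lift (Y.fromSpecResidueField η ≫ s) (𝟙 _) (by rw [Category.assoc, hs]; simp)
    let pt : ↥(Spec κ) := IsLocalRing.closedPoint _
    have hbh : h pt = b := (f.fiberι η).isEmbedding.injective (by
      rw [hb]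
      refine (congrArg (fun q : Spec κ ⟶ X => q pt) (pullback.lift_fst _ _ _)).trans ?_
      exact congrArg s.base (Y.fromSpecResidueField_apply η pt))
    have hgc : GeometricallyConnected (𝟙 (Spec κ)) := by
      refine ⟨fun M _ y V fst snd hV => ?_⟩
      have : IsIso snd := hV.isIso_snd_of_isIso
      exact (Scheme.homeoOfIso (asIso snd)).symm.surjective.connectedSpace
        (Scheme.homeoOfIso (asIso snd)).symm.continuous
    have hconn := Groth.Agent.S4621.result (k := κ) (K := L) (f.fiberToSpecResidueField η) (𝟙 _) h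
      (pullback.lift_snd _ _ _) pt
    rw [hbh] at hconn
    let q := f.fiberToSpecResidueField η
    let σ := Spec.map (CommRingCat.ofHom (algebraMap κ L))
    let J : pullback (j ≫ q) σ ⟶ pullback q σ :=
      pullback.map (j ≫ q) σ q σ j (𝟙 _) (𝟙 _) (by simp) (by simp)
    have hJp : IsPullback J (pullback.fst (j ≫ q) σ) (pullback.fst q σ) j := by
      refine (IsPullback.of_bot (v₂₁ := pullback.snd q σ) (v₂₂ := q) ?_
        (pullback.lift_fst _ _ _).symm (IsPullback.of_hasPullback q σ)).flip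
      rw [pullback.lift_snd, Category.comp_id]
      exact IsPullback.of_hasPullback (j ≫ q) σ
    have : IsPreimmersion J := MorphismProperty.of_isPullback (P := @IsPreimmersion) hJp.flip inferInstance
    have hJr : Set.range J = pullback.fst q σ ⁻¹' C₀ := by
      rw [Scheme.Pullback.range_map, hjr]
      simp
    have hcJ : ConnectedSpace ↑(pullback (j ≫ q) σ) := by
      rw [connectedSpace_iff_univ]
      refine ⟨?_, (J.isEmbedding.isInducing.isPreconnected_image).1 ?_⟩
      · obtain ⟨z, hz⟩ := hconn.nonempty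
        obtain ⟨w, -⟩ := hJr.ge hz
        exact ⟨w, trivial⟩
      · rw [Set.image_univ, hJr]
        exact hconn.isPreconnected
    let e : MoreMor.geomFiber (i ≫ f) η ≅ pullback (j ≫ q) σ := pullback.congrHom hj.symm rfl
    exact (Scheme.homeoOfIso e).symm.surjective.connectedSpace (Scheme.homeoOfIso e).symm.continuous
  have hsT : ∀ y, s y ∈ T₀ := fun y => by
    have h1 : IsClosed (s ⁻¹' T₀) := isClosed_closure.preimage s.continuous
    have h2 : η ∈ s ⁻¹' T₀ := by
      show s η ∈ T₀
      rw [← hb]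
      exact subset_closure ⟨b, mem_connectedComponent, rfl⟩
    exact (hη.mem_closed_set_iff h1).1 h2 (Set.mem_univ y)
  refine ⟨V₁ ⊓ V₂ ⊓ V₃, T₀, T₁, ⟨⟨hmem V₁ hV₁, hmem V₂ hV₂⟩, hmem V₃ hV₃⟩, isClosed_closure,
    isClosed_closure, ?_⟩
  suffices key : ∀ y ∈ V₁ ⊓ V₂ ⊓ V₃, connectedComponentIn (f ⁻¹' {y}) (s y) = T₀ ∩ f ⁻¹' {y} ∧
      ∀ x, f x = y → (x ∈ T₁ ↔ x ∉ T₀) by
    intro x hx
    obtain ⟨h1, h2⟩ := key (f x) hx
    refine ⟨?_, h2 x rfl⟩
    show x ∈ connectedComponentIn _ _ ↔ _
    rw [h1]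
    exact ⟨fun h => h.1, fun h => ⟨h, rfl⟩⟩
  rintro y ⟨⟨hy₁, hy₂⟩, hy₃⟩
  have hpart : ∀ x, f x = y → (x ∈ T₁ ↔ x ∉ T₀) := fun x hx => by
    obtain ⟨a, rfl⟩ := (f.range_fiberι y).ge (show x ∈ f ⁻¹' {y} from hx)
    refine ⟨fun h1 h0 => (Set.ext_iff.1 (hd y hy₁) a).1 ⟨h0, h1⟩, fun h0 => ?_⟩
    exact ((Set.ext_iff.1 (hu y hy₂) a).2 trivial).resolve_left h0
  refine ⟨?_, hpart⟩
  have hconn : _root_.IsPreconnected (T₀ ∩ f ⁻¹' {y}) := by
    have h1 : GeometricallyConnected ((i ≫ f).fiberToSpecResidueField y) :=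
      (geometricallyConnected_iff_count (i ≫ f) y).2 ((hc y hy₃).2.trans hgen)
    have h2 : ConnectedSpace ↑((i ≫ f).fiber y) :=
      GeometricallyConnected.connectedSpace_of_subsingleton (f := (i ≫ f).fiberToSpecResidueField y)
    have h3 : T₀ ∩ f ⁻¹' {y} = Set.range ((i ≫ f).fiberι y ≫ i) := by
      rw [Scheme.Hom.comp_base, TopCat.coe_comp, Set.range_comp, (i ≫ f).range_fiberι y,
        Scheme.Hom.comp_base, TopCat.coe_comp, Set.preimage_comp, Set.image_preimage_eq_inter_range, hr,
        Set.inter_comm]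
    rw [h3]
    exact (isConnected_range ((i ≫ f).fiberι y ≫ i).continuous).isPreconnected
  refine Set.Subset.antisymm ?_ (hconn.subset_connectedComponentIn ⟨hsT y, hfs y⟩ Set.inter_subset_right)
  intro x hx
  have hxy : x ∈ f ⁻¹' {y} := connectedComponentIn_subset (f ⁻¹' {y}) (s y) hx
  refine ⟨by_contra fun hx0 => ?_, hxy⟩
  obtain ⟨z, hz, hz0, hz1⟩ := isPreconnected_closed_iff.1 isPreconnected_connectedComponentIn T₀ T₁
    isClosed_closure isClosed_closure (fun z hz => by
      by_cases h : z ∈ T₀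
      · exact Or.inl h
      · exact Or.inr ((hpart z (connectedComponentIn_subset (f ⁻¹' {y}) (s y) hz)).2 h))
    ⟨s y, mem_connectedComponentIn (hfs y), hsT y⟩ ⟨x, hx, (hpart x hxy).2 hx0⟩
  exact (hpart z (connectedComponentIn_subset (f ⁻¹' {y}) (s y) hz)).1 hz1 hz0

/-- Section components are clopen over an open piece of the closure of a point. -/
theorem exists_clopen_closure [LocallyOfFiniteType f] [QuasiCompact f] (hs : s ≫ f = 𝟙 Y) (y : Y) :
    ∃ V : Set Y, V ⊆ closure {y} ∧ y ∈ V ∧
      IsOpen (Subtype.val ⁻¹' V : Set ↑(closure ({y} : Set Y))) ∧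
      IsClopen (Subtype.val ⁻¹' MoreMor.sectionComponents f s : Set ↑(f ⁻¹' V)) := by
  obtain ⟨W, i, hi, hr⟩ := exists_closedImmersion (closure {y}) isClosed_closure
  obtain ⟨η, hη⟩ : y ∈ Set.range i := hr.symm.subset (subset_closure rfl)
  have hgen : IsGenericPoint η (Set.univ : Set W) := by
    show closure {η} = Set.univ
    rw [i.isClosedEmbedding.isInducing.closure_eq_preimage_closure_image, Set.image_singleton, hη, ← hr,
      Set.preimage_range]
  have : IrreducibleSpace W := (irreducibleSpace_def _).2 hgen.isIrreducible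
  let s' : W ⟶ pullback f i := pullback.lift (i ≫ s) (𝟙 W) (by rw [Category.assoc, hs]; simp)
  obtain ⟨V, T₀, T₁, hηV, hT₀, hT₁, hkey⟩ :=
    exists_clopen_generic (pullback.snd f i) s' (pullback.lift_snd _ _ _) η hgen
  have hX : MoreMor.sectionComponents (pullback.snd f i) s' =
      pullback.fst f i ⁻¹' MoreMor.sectionComponents f s :=
    Groth.Agent.H54.SectionComp.result f s hs _ _ i (IsPullback.of_hasPullback f i) s'
      (pullback.lift_snd _ _ _) (pullback.lift_fst _ _ _)
  obtain ⟨O, hO, hOV⟩ := i.isClosedEmbedding.isInducing.isOpen_iff.1 V.2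
  have : IsClosedImmersion (pullback.fst f i) := MorphismProperty.pullback_fst f i hi
  let g' := pullback.fst f i
  have hsq : ∀ z, f (g' z) = i (pullback.snd f i z) := fun z =>
    congrArg (fun q : pullback f i ⟶ Y => q z) pullback.condition
  have hlift : ∀ x : X, f x ∈ i '' (V : Set W) → ∃ z, g' z = x ∧ pullback.snd f i z ∈ V := by
    rintro x ⟨w, hw, hwx⟩
    obtain ⟨z, hz1, hz2⟩ := Scheme.exists_preimage_of_isPullback (IsPullback.of_hasPullback f i) x w hwx.symm
    exact ⟨z, hz1, hz2 ▸ hw⟩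
  refine ⟨i '' (V : Set W), by rw [← hr]; exact Set.image_subset_range _ _, ⟨η, hηV, hη⟩, ?_, ?_⟩
  · have : (Subtype.val ⁻¹' (i '' (V : Set W)) : Set ↑(closure ({y} : Set Y))) = Subtype.val ⁻¹' O := by
      ext ⟨z, hz⟩
      rw [← hr] at hz
      obtain ⟨w, rfl⟩ := hz
      simp only [Set.mem_preimage, i.isClosedEmbedding.injective.mem_set_image]
      exact (Set.ext_iff.1 hOV w).symm
    rw [this]
    exact hO.preimage continuous_subtype_val
  · have hA : ∀ (x : X) (_ : f x ∈ i '' (V : Set W)),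
        (x ∈ MoreMor.sectionComponents f s ↔ x ∈ g' '' T₀) ∧
          (x ∉ MoreMor.sectionComponents f s ↔ x ∈ g' '' T₁) := fun x hx => by
      obtain ⟨z, rfl, hzV⟩ := hlift x hx
      obtain ⟨h1, h2⟩ := hkey z hzV
      rw [g'.isClosedEmbedding.injective.mem_set_image, g'.isClosedEmbedding.injective.mem_set_image,
        ← h1, hX, h2, ← h1, hX]
      exact ⟨Iff.rfl, Iff.rfl⟩
    have e0 : (Subtype.val ⁻¹' MoreMor.sectionComponents f s : Set ↑(f ⁻¹' (i '' (V : Set W)))) =
        Subtype.val ⁻¹' (g' '' T₀) := Set.ext fun x => (hA x.1 x.2).1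
    have e1 : (Subtype.val ⁻¹' MoreMor.sectionComponents f s : Set ↑(f ⁻¹' (i '' (V : Set W))))ᶜ =
        Subtype.val ⁻¹' (g' '' T₁) := Set.ext fun x => (hA x.1 x.2).2
    refine ⟨?_, ?_⟩
    · rw [e0]
      exact (g'.isClosedEmbedding.isClosedMap _ hT₀).preimage continuous_subtype_val
    · rw [← isClosed_compl_iff, e1]
      exact (g'.isClosedEmbedding.isClosedMap _ hT₁).preimage continuous_subtype_val

end Groth.Agent.H46.GeomSpread
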