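import Groth.Agent.H46.GeomSpread.Constructible
import Groth.Agent.H46.GeomSpread.Section

/-!
# The section components are locally constructible
-/

set_option autoImplicit false
set_option linter.style.haveILetI false
noncomputable section

universe u

open CategoryTheory CategoryTheory.Limits AlgebraicGeometry TopologicalSpace Topology

namespace Groth.Agent.H46.GeomSpread

/-- The noetherian case. -/
theorem isConstructible_sectionComponents {X Y : Scheme.{u}} [NoetherianSpace X] (f : X ⟶ Y)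
    [LocallyOfFiniteType f] [QuasiCompact f] (s : Y ⟶ X) (hs : s ≫ f = 𝟙 Y) :
    IsConstructible (MoreMor.sectionComponents f s) := by
  refine isConstructible_of_locallyClosed _ fun ζ => ?_
  obtain ⟨V, hV, hζV, hVo, hclop⟩ := exists_clopen_closure f s hs (f ζ)
  obtain ⟨O, hO, hOV⟩ := isOpen_induced_iff.1 hVo
  have hsub : closure ({ζ} : Set X) ⊆ f ⁻¹' closure {f ζ} :=
    closure_minimal (Set.singleton_subset_iff.2 (subset_closure rfl)) (isClosed_closure.preimage f.continuous)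
  have hiff : ∀ x ∈ closure ({ζ} : Set X), f x ∈ O ↔ f x ∈ V := fun x hx =>
    Set.ext_iff.1 hOV ⟨f x, hsub hx⟩
  refine ⟨closure {ζ} ∩ f ⁻¹' O, Set.inter_subset_left,
    ⟨subset_closure rfl, (hiff ζ (subset_closure rfl)).2 hζV⟩, ?_, fun x hx => ?_⟩
  · have : (Subtype.val ⁻¹' (closure {ζ} ∩ f ⁻¹' O) : Set ↑(closure ({ζ} : Set X))) =
        Subtype.val ⁻¹' (f ⁻¹' O) := by
      ext z
      simp
    rw [this]
    exact (hO.preimage f.continuous).preimage continuous_subtype_val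
  · let S : Set X := closure {ζ} ∩ f ⁻¹' O
    have hS : S ⊆ f ⁻¹' V := fun z hz => (hiff z hz.1).1 hz.2
    have hirr : IsPreirreducible S := by
      rintro u v hu hv ⟨a, ⟨ha, haO⟩, hau⟩ ⟨b, ⟨hb, hbO⟩, hbv⟩
      obtain ⟨z, hz, hzu, hzv⟩ := (isIrreducible_singleton (x := ζ)).closure.2 (f ⁻¹' O ∩ u)
        (f ⁻¹' O ∩ v) ((hO.preimage f.continuous).inter hu) ((hO.preimage f.continuous).inter hv)
        ⟨a, ha, haO, hau⟩ ⟨b, hb, hbO, hbv⟩
      exact ⟨z, ⟨hz, hzu.1⟩, hzu.2, hzv.2⟩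
    let S' : Set ↑(f ⁻¹' V) := Subtype.val ⁻¹' S
    have hconn : _root_.IsPreconnected S' := by
      refine (IsInducing.subtypeVal.isPreconnected_image).1 ?_
      rw [Subtype.image_preimage_coe, Set.inter_eq_right.2 hS]
      exact hirr.isPreconnected
    have hζ : (⟨ζ, hS ⟨subset_closure rfl, (hiff ζ (subset_closure rfl)).2 hζV⟩⟩ : ↑(f ⁻¹' V)) ∈ S' :=
      ⟨subset_closure rfl, (hiff ζ (subset_closure rfl)).2 hζV⟩
    have hx' : (⟨x, hS hx⟩ : ↑(f ⁻¹' V)) ∈ S' := hx
    constructor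
    · exact fun h => hconn.subset_isClopen hclop ⟨_, hx', h⟩ hζ
    · exact fun h => hconn.subset_isClopen hclop ⟨_, hζ, h⟩ hx'

/-- For morphisms of finite presentation the section components are locally constructible. -/
theorem isLocallyConstructible_sectionComponents {X Y : Scheme.{u}} (f : X ⟶ Y) (s : Y ⟶ X)
    (hs : s ≫ f = 𝟙 Y) [LocallyOfFinitePresentation f] [QuasiCompact f] [QuasiSeparated f] :
    IsLocallyConstructible (MoreMor.sectionComponents f s) := by
  intro x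
  obtain ⟨U, hU, hyU, -⟩ := exists_isAffineOpen_mem_and_subset (U := ⊤) (x := f x) trivial
  have : IsAffine (U : Scheme.{u}) := hU
  obtain ⟨AS⟩ := Lib.Lim.Approx.Main.exists_approx (S := (U : Scheme.{u}))
  have : CompactSpace ↑(f ⁻¹ᵁ U : Scheme.{u}) := QuasiCompact.compactSpace_of_compactSpace (f ∣_ U)
  have : QuasiSeparatedSpace ↑(f ⁻¹ᵁ U : Scheme.{u}) :=
    quasiSeparatedSpace_of_quasiSeparated (f ∣_ U)
  obtain ⟨i, Xi, fi, g, hXi, hXi', hfi, hsq⟩ :=
    Lib.Lim.FPDescend.exists_descent (c := AS.cone) AS.isLimit (f ∣_ U)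
  -- the section
  let σ : (U : Scheme.{u}) ⟶ (f ⁻¹ᵁ U : Scheme.{u}) :=
    IsOpenImmersion.lift (f ⁻¹ᵁ U).ι (U.ι ≫ s) (by
      rintro _ ⟨v, rfl⟩
      rw [Scheme.Opens.range_ι]
      show (U.ι ≫ s ≫ f) v ∈ U
      rw [hs, Category.comp_id]
      exact v.2)
  have hσι : σ ≫ (f ⁻¹ᵁ U).ι = U.ι ≫ s := IsOpenImmersion.lift_fac _ _ _
  have hσ : σ ≫ (f ∣_ U) = 𝟙 _ := by
    rw [← cancel_mono U.ι, Category.assoc, morphismRestrict_ι, reassoc_of% hσι, hs, Category.comp_id,
      Category.id_comp]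
  have hsqi : IsPullback (AS.π.app i) (𝟙 (U : Scheme.{u})) (𝟙 (AS.D.obj i)) (AS.π.app i) :=
    IsPullback.id_vert _
  have : CompactSpace ↑(AS.D.obj i) := AS.compact _
  obtain ⟨j, φ, g', hg', hg'c⟩ := Lib.Lim.Basic.exists_bc_hom (D := AS.D) (c := AS.cone) (i₀ := i)
    (a := 𝟙 (AS.D.obj i)) AS.isLimit hsqi fi (𝟙 _) (σ ≫ g) (by
      rw [Category.assoc, hsq.w, reassoc_of% hσ, Category.comp_id])
  let f₁ := pullback.snd fi (AS.D.map φ)
  let sj : AS.D.obj j ⟶ pullback fi (AS.D.map φ) :=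
    pullback.lift (pullback.lift (AS.D.map φ) (𝟙 _) (by simp) ≫ g') (𝟙 _) (by
      simp only [Category.assoc, hg', Category.comp_id, pullback.lift_fst, Category.id_comp])
  have hsj : sj ≫ f₁ = 𝟙 _ := pullback.lift_snd _ _ _
  have hsq₁ := Lib.Lim.FPDescend.move (c := AS.cone) hsq φ
  let g₁ : (f ⁻¹ᵁ U : Scheme.{u}) ⟶ pullback fi (AS.D.map φ) :=
    pullback.lift g ((f ∣_ U) ≫ AS.π.app j) (by
      rw [Category.assoc, show AS.π.app j ≫ AS.D.map φ = AS.π.app i from AS.cone.w φ, hsq.w])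
  have hσg : σ ≫ g₁ = AS.π.app j ≫ sj := by
    apply pullback.hom_ext
    · rw [Category.assoc, pullback.lift_fst, Category.assoc, pullback.lift_fst, ← Category.assoc, ← hg'c]
      congr 1
      apply pullback.hom_ext
      · rw [pullback.lift_fst, Category.assoc, pullback.lift_fst]
        exact (AS.cone.w φ).symm
      · rw [pullback.lift_snd, Category.assoc, pullback.lift_snd, Category.comp_id]
        exact Category.id_comp _
    · rw [Category.assoc, pullback.lift_snd, Category.assoc, pullback.lift_snd, Category.comp_id,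
        ← Category.assoc, hσ, Category.id_comp]
  have : CompactSpace ↑(AS.D.obj j) := AS.compact _
  have : CompactSpace ↑(pullback fi (AS.D.map φ)) := Lib.Lim.FPDescend.compactSpace_stage (D := AS.D) fi φ
  have : QuasiCompact f₁ := quasiCompact_of_compactSpace f₁
  have : IsLocallyNoetherian (pullback fi (AS.D.map φ)) := LocallyOfFiniteType.isLocallyNoetherian f₁
  have : NoetherianSpace ↑(pullback fi (AS.D.map φ)) := by
    have : IsNoetherian (pullback fi (AS.D.map φ)) := {}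
    infer_instance
  have hE := isConstructible_sectionComponents f₁ sj hsj
  refine ⟨f ⁻¹ᵁ U, (f ⁻¹ᵁ U).2.mem_nhds hyU, (f ⁻¹ᵁ U).2, ?_⟩
  have h2 : IsConstructible (g₁ ⁻¹' MoreMor.sectionComponents f₁ sj) :=
    (H47.ConsPreimage.isLocallyConstructible_preimage g₁ hE.isLocallyConstructible).isConstructible
  have e1 : MoreMor.sectionComponents (f ∣_ U) σ = g₁ ⁻¹' MoreMor.sectionComponents f₁ sj :=
    Groth.Agent.H54.SectionComp.result f₁ sj hsj (f ∣_ U) g₁ (AS.π.app j) hsq₁ σ hσ hσg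
  have e2 : MoreMor.sectionComponents (f ∣_ U) σ = (f ⁻¹ᵁ U).ι ⁻¹' MoreMor.sectionComponents f s :=
    Groth.Agent.H54.SectionComp.result f s hs (f ∣_ U) (f ⁻¹ᵁ U).ι U.ι
      (isPullback_morphismRestrict f U).flip σ hσ hσι
  show IsConstructible ((f ⁻¹ᵁ U).ι ⁻¹' MoreMor.sectionComponents f s)
  rw [← e2, e1]
  exact h2

end Groth.Agent.H46.GeomSpread
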