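import Groth.Agent.H46.GeomSpread.Fibre
import Groth.Agent.Lib.Spectral.Noetherian
import Groth.Agent.Lib.Lim.Approx.Main
import Groth.Agent.Lib.Lim.FPDescend
import Groth.Agent.H47.ConsPreimage

/-!
# Constructibility of level sets of counts of geometric components
-/

set_option autoImplicit false
set_option linter.style.haveILetI false
noncomputable section

universe u

open CategoryTheory CategoryTheory.Limits AlgebraicGeometry TopologicalSpace Topology

namespace Groth.Agent.H46.GeomSpread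

/-- The level sets in the noetherian case. -/
theorem isConstructible_of_locallyClosed {Y : Scheme.{u}} [NoetherianSpace Y] (E : Set Y)
    (h : ∀ η : Y, ∃ V : Set Y, V ⊆ closure {η} ∧ η ∈ V ∧
      IsOpen (Subtype.val ⁻¹' V : Set ↑(closure ({η} : Set Y))) ∧ ∀ y ∈ V, (y ∈ E ↔ η ∈ E)) :
    IsConstructible E := by
  refine Lib.Spectral.Noetherian.isConstructible_of_forall E fun Z hZ hZi hd => ?_
  obtain ⟨η, hη⟩ := QuasiSober.sober hZi hZ
  obtain ⟨V, hVc, hηV, hVo, hV⟩ := h η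
  obtain ⟨U, hU, hUV⟩ := isOpen_induced_iff.1 hVo
  have hηU : η ∈ U := (Set.ext_iff.1 hUV ⟨η, subset_closure rfl⟩).2 hηV
  have hmem : ∀ y ∈ U, y ∈ Z → y ∈ V := fun y hyU hyZ =>
    (Set.ext_iff.1 hUV ⟨y, hη.symm ▸ hyZ⟩).1 hyU
  have hηE : η ∈ E := by
    obtain ⟨y, hyU, hyE, hyZ⟩ := mem_closure_iff.1 (hd (hη ▸ subset_closure rfl)) U hU hηU
    exact (hV y (hmem y hyU hyZ)).1 hyE
  exact ⟨U, hU, ⟨η, hηU, hη ▸ subset_closure rfl⟩,
    fun y hy => (hV y (hmem y hy.1 hy.2)).2 hηE⟩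

/-- A fibrewise property, stable under base change and constant on open pieces of closures of points,
is locally constructible for morphisms of finite presentation. -/
theorem isLocallyConstructible_of_baseChange
    (P : ∀ {X Y : Scheme.{u}}, (X ⟶ Y) → Y → Prop)
    (hbc : ∀ {X Y X' Y' : Scheme.{u}} (f : X ⟶ Y) (f' : X' ⟶ Y') (g' : X' ⟶ X) (g : Y' ⟶ Y),
      IsPullback g' f' f g → ∀ y', (P f' y' ↔ P f (g y')))
    (hloc : ∀ {X Y : Scheme.{u}} (f : X ⟶ Y) [LocallyOfFiniteType f] [QuasiCompact f] (η : Y),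
      ∃ V : Set Y, V ⊆ closure {η} ∧ η ∈ V ∧
        IsOpen (Subtype.val ⁻¹' V : Set ↑(closure ({η} : Set Y))) ∧ ∀ y ∈ V, (P f y ↔ P f η))
    {X Y : Scheme.{u}} (f : X ⟶ Y) [LocallyOfFinitePresentation f] [QuasiCompact f] [QuasiSeparated f] :
    IsLocallyConstructible {y : Y | P f y} := by
  intro y
  obtain ⟨U, hU, hyU, -⟩ := exists_isAffineOpen_mem_and_subset (U := ⊤) (x := y) trivial
  have : IsAffine (U : Scheme.{u}) := hU
  obtain ⟨AS⟩ := Lib.Lim.Approx.Main.exists_approx (S := (U : Scheme.{u}))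
  have : CompactSpace ↑(f ⁻¹ᵁ U : Scheme.{u}) := QuasiCompact.compactSpace_of_compactSpace (f ∣_ U)
  have : QuasiSeparatedSpace ↑(f ⁻¹ᵁ U : Scheme.{u}) :=
    quasiSeparatedSpace_of_quasiSeparated (f ∣_ U)
  obtain ⟨i, Xi, fi, g, hXi, hXi', hfi, hsq⟩ :=
    Lib.Lim.FPDescend.exists_descent (c := AS.cone) AS.isLimit (f ∣_ U)
  have : CompactSpace ↑(AS.D.obj i) := AS.compact _
  have : QuasiCompact fi := quasiCompact_of_compactSpace fi
  have : NoetherianSpace ↑(AS.D.obj i) := by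
    have : CompactSpace ↑(AS.D.obj i) := AS.compact _
    have : IsNoetherian (AS.D.obj i) := {}
    infer_instance
  have hE : IsConstructible {z : ↑(AS.D.obj i) | P fi z} :=
    isConstructible_of_locallyClosed _ fun η => hloc fi η
  refine ⟨U, U.2.mem_nhds hyU, U.2, ?_⟩
  let pr : (U : Scheme.{u}) ⟶ AS.D.obj i := AS.π.app i
  have h2 : IsConstructible (pr ⁻¹' {z : ↑(AS.D.obj i) | P fi z}) :=
    (H47.ConsPreimage.isLocallyConstructible_preimage pr hE.isLocallyConstructible).isConstructible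
  have h3 : (Subtype.val ⁻¹' {y : Y | P f y} : Set ↑(U : Set Y)) =
      pr ⁻¹' {z : ↑(AS.D.obj i) | P fi z} := by
    ext v
    exact ((hbc f (f ∣_ U) (f ⁻¹ᵁ U).ι U.ι (isPullback_morphismRestrict f U).flip v).symm).trans
      (hbc fi (f ∣_ U) g (AS.π.app i) hsq v)
  rw [h3]
  exact h2

end Groth.Agent.H46.GeomSpread
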