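import Groth.Agent.H46.GeomSpread.Ratio
import Groth.Agent.H56.NearGeneric.Loci
import Groth.Agent.H56.PolyIrred

/-!
# Spreading out geometric irreducibility of a finite type algebra over a domain
-/

set_option autoImplicit false
set_option linter.style.haveILetI false
noncomputable section

universe u

open TensorProduct MvPolynomial

namespace Groth.Agent.H46.GeomSpread

open Groth.Agent.H56.NearGeneric

variable {A : Type u} [CommRing A]

/-- The coordinate ring of the complement of `H` in the hypersurface `F`. -/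
abbrev HypRing {N : ℕ} (F H : MvPolynomial (Fin N) A) : Type u :=
  Localization.Away (Ideal.Quotient.mk (Ideal.span ({F} : Set (MvPolynomial (Fin N) A))) H)

variable {N : ℕ} (F H : MvPolynomial (Fin N) A)

/-- The coordinates as elements of `HypRing`. -/
def toHyp : MvPolynomial (Fin N) A →ₐ[A] HypRing F H :=
  (IsScalarTower.toAlgHom A (MvPolynomial (Fin N) A ⧸ Ideal.span ({F} : Set _)) (HypRing F H)).comp
    (Ideal.Quotient.mkₐ A _)

theorem toHyp_surj (m : HypRing F H) : ∃ (n : ℕ) (q : MvPolynomial (Fin N) A),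
    m * toHyp F H H ^ n = toHyp F H q := by
  obtain ⟨n, b, hb⟩ := IsLocalization.Away.surj
    (Ideal.Quotient.mk (Ideal.span ({F} : Set (MvPolynomial (Fin N) A))) H) m
  obtain ⟨q, rfl⟩ := Ideal.Quotient.mk_surjective b
  exact ⟨n, q, hb⟩

theorem toHyp_self : toHyp F H F = 0 := by
  refine (congrArg (algebraMap (MvPolynomial (Fin N) A ⧸ Ideal.span ({F} : Set _)) (HypRing F H))
    (Ideal.Quotient.eq_zero_iff_mem.2 (Ideal.mem_span_singleton_self F))).trans (map_zero _)

theorem isUnit_toHyp : IsUnit (toHyp F H H) :=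
  IsLocalization.Away.algebraMap_isUnit
    (Ideal.Quotient.mk (Ideal.span ({F} : Set (MvPolynomial (Fin N) A))) H)

/-- The base changed coordinates. -/
def toHypBC (L : Type u) [Field L] [Algebra A L] :
    MvPolynomial (Fin N) L →ₐ[L] L ⊗[A] HypRing F H :=
  aeval fun i => (1 : L) ⊗ₜ[A] toHyp F H (X i)

theorem toHypBC_map (L : Type u) [Field L] [Algebra A L] (q : MvPolynomial (Fin N) A) :
    toHypBC F H L (q.map (algebraMap A L)) = (1 : L) ⊗ₜ[A] toHyp F H q := by
  rw [toHypBC, aeval_map_algebraMap]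
  exact DFunLike.congr_fun (algHom_ext (A := L ⊗[A] HypRing F H)
    (f := aeval fun i => (1 : L) ⊗ₜ[A] toHyp F H (X i))
    (g := (Algebra.TensorProduct.includeRight : HypRing F H →ₐ[A] L ⊗[A] HypRing F H).comp
      (toHyp F H)) fun i => by simp) q

theorem toHypBC_surj (L : Type u) [Field L] [Algebra A L] (z : L ⊗[A] HypRing F H) :
    ∃ (n : ℕ) (p : MvPolynomial (Fin N) L),
      z * ((1 : L) ⊗ₜ[A] toHyp F H H) ^ n = toHypBC F H L p := by
  induction z using TensorProduct.induction_on with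
  | zero => exact ⟨0, 0, by simp⟩
  | tmul l m =>
    obtain ⟨n, q, hq⟩ := toHyp_surj F H m
    refine ⟨n, MvPolynomial.C l * q.map (algebraMap A L), ?_⟩
    rw [map_mul, toHypBC_map, Algebra.TensorProduct.tmul_pow, one_pow,
      Algebra.TensorProduct.tmul_mul_tmul, hq, mul_one, toHypBC, aeval_C,
      Algebra.TensorProduct.algebraMap_apply, Algebra.algebraMap_self, RingHom.id_apply,
      Algebra.TensorProduct.tmul_mul_tmul, mul_one, one_mul]
  | add a b ha hb =>
    obtain ⟨n, p, hp⟩ := ha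
    obtain ⟨n', p', hp'⟩ := hb
    refine ⟨n + n', p * (H.map (algebraMap A L)) ^ n' + p' * (H.map (algebraMap A L)) ^ n, ?_⟩
    rw [map_add, map_mul, map_mul, map_pow, map_pow, toHypBC_map, ← hp, ← hp', add_mul, pow_add]
    ring

theorem injective_of_ker (L : Type u) [Field L] [Algebra A L] {𝔽 : Type u} [Field 𝔽] [Algebra L 𝔽]
    [Algebra A 𝔽] [IsScalarTower A L 𝔽] (x : Fin N → 𝔽)
    (hker : ∀ p : MvPolynomial (Fin N) L, aeval x p = 0 → F.map (algebraMap A L) ∣ p)
    (φ : L ⊗[A] HypRing F H →ₐ[L] 𝔽)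
    (hφ : ∀ q : MvPolynomial (Fin N) A, φ ((1 : L) ⊗ₜ toHyp F H q) = aeval x q) :
    Function.Injective φ := by
  refine (injective_iff_map_eq_zero φ).2 fun z hz => ?_
  obtain ⟨n, p, hp⟩ := toHypBC_surj F H L z
  have hcomp : φ.comp (toHypBC F H L) = aeval x := algHom_ext fun i => by
    simp [toHypBC, hφ]
  have h0 : aeval x p = 0 := by
    rw [← hcomp, AlgHom.comp_apply, ← hp, map_mul, hz, zero_mul]
  obtain ⟨w, rfl⟩ := hker p h0
  rw [map_mul, toHypBC_map, toHyp_self, TensorProduct.tmul_zero, zero_mul] at hp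
  exact (((isUnit_toHyp F H).map
    (Algebra.TensorProduct.includeRight : _ →ₐ[A] L ⊗[A] HypRing F H)).pow n).mul_left_eq_zero.1 hp

/-- The homomorphism out of `L ⊗ HypRing` given by a point of the hypersurface off `H`. -/
theorem exists_point (L : Type u) [Field L] [Algebra A L] {𝔽 : Type u} [Field 𝔽] [Algebra L 𝔽]
    [Algebra A 𝔽] [IsScalarTower A L 𝔽] (x : Fin N → 𝔽) (hF : aeval x F = 0) (hH : aeval x H ≠ 0) :
    ∃ φ : L ⊗[A] HypRing F H →ₐ[L] 𝔽,
      ∀ q : MvPolynomial (Fin N) A, φ ((1 : L) ⊗ₜ toHyp F H q) = aeval x q := by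
  let g : MvPolynomial (Fin N) A ⧸ Ideal.span ({F} : Set _) →ₐ[A] 𝔽 :=
    Ideal.Quotient.liftₐ _ (aeval x) fun a ha => by
      obtain ⟨w, rfl⟩ := Ideal.mem_span_singleton.1 ha
      rw [map_mul, hF, zero_mul]
  let gl : HypRing F H →ₐ[A] 𝔽 :=
    IsLocalization.liftAlgHom (M := Submonoid.powers (Ideal.Quotient.mk _ H)) (f := g) fun y => by
      obtain ⟨n, hn⟩ := y.2
      rw [← hn, map_pow]
      exact (isUnit_iff_ne_zero.2 hH).pow n
  refine ⟨Algebra.TensorProduct.lift (Algebra.ofId L 𝔽) gl fun _ _ => .all _ _, fun q => ?_⟩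
  rw [Algebra.TensorProduct.lift_tmul, map_one, one_mul]
  exact IsLocalization.liftAlgHom_apply .. |>.trans (IsLocalization.lift_eq _ _)

theorem isDomain_hypRing (L : Type u) [Field L] [Algebra A L]
    (hF : Irreducible (F.map (algebraMap A L))) [Nontrivial (L ⊗[A] HypRing F H)] :
    IsDomain (L ⊗[A] HypRing F H) := by
  let I := Ideal.span ({F.map (algebraMap A L)} : Set (MvPolynomial (Fin N) L))
  have hI : I.IsPrime := (Ideal.span_singleton_prime hF.ne_zero).2 hF.prime
  let 𝔽 := FractionRing (MvPolynomial (Fin N) L ⧸ I)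
  let x : Fin N → 𝔽 := fun i => algebraMap _ 𝔽 (Ideal.Quotient.mk I (X i))
  have hx : ∀ p : MvPolynomial (Fin N) L, aeval x p = algebraMap _ 𝔽 (Ideal.Quotient.mk I p) :=
    fun p => DFunLike.congr_fun (algHom_ext (f := aeval x)
      (g := (IsScalarTower.toAlgHom L (MvPolynomial (Fin N) L ⧸ I) 𝔽).comp (Ideal.Quotient.mkₐ L I))
      fun i => by simp [x]) p
  have hker : ∀ p : MvPolynomial (Fin N) L, aeval x p = 0 → F.map (algebraMap A L) ∣ p := fun p hp => by
    rw [hx] at hp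
    exact Ideal.mem_span_singleton.1 (Ideal.Quotient.eq_zero_iff_mem.1
      (IsFractionRing.injective _ 𝔽 (hp.trans (map_zero _).symm)))
  have hFx : aeval x F = 0 := by
    rw [← aeval_map_algebraMap L x F, hx,
      Ideal.Quotient.eq_zero_iff_mem.2 (Ideal.mem_span_singleton_self _), map_zero]
  have hHx : aeval x H ≠ 0 := by
    intro h0
    rw [← aeval_map_algebraMap L x H] at h0
    obtain ⟨w, hw⟩ := hker _ h0
    have h1 := toHypBC_map F H L H
    rw [hw, map_mul, toHypBC_map, toHyp_self, TensorProduct.tmul_zero, zero_mul] at h1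
    exact not_isUnit_zero (M₀ := L ⊗[A] HypRing F H) (h1 ▸ (isUnit_toHyp F H).map
      (Algebra.TensorProduct.includeRight : _ →ₐ[A] L ⊗[A] HypRing F H))
  obtain ⟨φ, hφ⟩ := exists_point F H L x hFx hHx
  exact (injective_of_ker F H L x hker φ hφ).isDomain

theorem isPrime_nilradical_of_injective {R S : Type*} [CommRing R] [CommRing S] (φ : R →+* S)
    (hφ : Function.Injective φ) (h : (nilradical S).IsPrime) : (nilradical R).IsPrime := by
  have : nilradical R = (nilradical S).comap φ := by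
    ext r
    rw [Ideal.mem_comap, mem_nilradical, mem_nilradical, IsNilpotent.map_iff hφ]
  rw [this]
  infer_instance

theorem isPrime_nilradical_of_equiv {R S : Type*} [CommRing R] [CommRing S] (e : R ≃+* S)
    (h : (nilradical S).IsPrime) : (nilradical R).IsPrime :=
  isPrime_nilradical_of_injective e.toRingHom e.injective h

variable [IsDomain A] {B : Type u} [CommRing B] [Algebra A B] [Algebra.FiniteType A B]

/-- The two generating systems. -/
theorem hyp_side (Ω : Type u) [Field Ω] [IsAlgClosed Ω] [Algebra A Ω]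
    (hΩ : Function.Injective (algebraMap A Ω)) {L₀ : Type u} [Field L₀] [Algebra Ω L₀] [Algebra A L₀]
    [IsScalarTower A Ω L₀] (E : Subalgebra A L₀) (x : Fin N → L₀)
    (hF : Irreducible (F.map (algebraMap A Ω)))
    (hker : ∀ p : MvPolynomial (Fin N) Ω, aeval x p = 0 ↔ F.map (algebraMap A Ω) ∣ p)
    (hH : aeval x H ≠ 0) (hE : E = Algebra.adjoin A (Set.range x ∪ {(aeval x H)⁻¹})) :
    ∃ a : A, a ≠ 0 ∧ ∀ (L : Type u) [Field L] [Algebra A L], algebraMap A L a ≠ 0 →
      IsDomain (L ⊗[A] E) := by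
  have hxE : ∀ i, x i ∈ E := fun i => by
    rw [hE]
    exact Algebra.subset_adjoin (Or.inl ⟨i, rfl⟩)
  let β₀ : MvPolynomial (Fin N) A →ₐ[A] E := aeval fun i => ⟨x i, hxE i⟩
  have hβ₀ : ∀ q, (β₀ q : L₀) = aeval x q := fun q =>
    DFunLike.congr_fun (algHom_ext (f := E.val.comp β₀) (g := aeval x) fun i => by simp [β₀]) q
  have hFx : aeval x F = 0 := by
    rw [← aeval_map_algebraMap Ω x F]
    exact (hker _).2 dvd_rfl
  have hHu : IsUnit (β₀ H) := IsUnit.of_mul_eq_one ⟨(aeval x H)⁻¹, by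
      rw [hE]
      exact Algebra.subset_adjoin (Or.inr rfl)⟩
    (Subtype.ext (by
      show (β₀ H : L₀) * (aeval x H)⁻¹ = 1
      rw [hβ₀]
      exact mul_inv_cancel₀ hH))
  let β₁ : MvPolynomial (Fin N) A ⧸ Ideal.span ({F} : Set _) →ₐ[A] E :=
    Ideal.Quotient.liftₐ _ β₀ fun a ha => by
      obtain ⟨w, rfl⟩ := Ideal.mem_span_singleton.1 ha
      rw [map_mul, show β₀ F = 0 from Subtype.ext ((hβ₀ F).trans hFx), zero_mul]
  let β : HypRing F H →ₐ[A] E :=
    IsLocalization.liftAlgHom (M := Submonoid.powers (Ideal.Quotient.mk _ H)) (f := β₁) fun y => by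
      obtain ⟨n, hn⟩ := y.2
      rw [← hn, map_pow]
      exact hHu.pow n
  have hβ : ∀ q, β (toHyp F H q) = β₀ q := fun q =>
    (IsLocalization.liftAlgHom_apply ..).trans (IsLocalization.lift_eq _ _)
  have hβs : Function.Surjective β := by
    have h : (E : Set L₀) ⊆ ↑(E.val.comp β).range := by
      refine SetLike.coe_subset_coe.2 (hE.le.trans (Algebra.adjoin_le ?_))
      rintro _ (⟨i, rfl⟩ | h)
      · exact ⟨toHyp F H (X i), by simp [hβ, hβ₀]⟩
      · rw [Set.mem_singleton_iff.1 h]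
        obtain ⟨w, hw⟩ := (isUnit_toHyp F H).exists_right_inv
        refine ⟨w, eq_inv_of_mul_eq_one_left ?_⟩
        have h1 : β₀ H * β w = 1 := by rw [← hβ, ← map_mul, hw, map_one]
        rw [← hβ₀]
        exact (mul_comm _ _).trans (congrArg Subtype.val h1)
    rintro ⟨l, hl⟩
    obtain ⟨z, hz⟩ := h hl
    exact ⟨z, Subtype.ext hz⟩
  letI : Algebra (HypRing F H) E := β.toRingHom.toAlgebra
  have : IsScalarTower A (HypRing F H) E :=
    IsScalarTower.of_algebraMap_eq fun a => (β.commutes a).symm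
  have : Module.Finite (HypRing F H) E :=
    Module.Finite.of_surjective (Algebra.linearMap (HypRing F H) E) hβs
  have : Algebra.FiniteType A (HypRing F H) :=
    Algebra.FiniteType.trans (S := MvPolynomial (Fin N) A ⧸ Ideal.span ({F} : Set _)) inferInstance
      (IsLocalization.finiteType_of_monoid_fg (Submonoid.powers (Ideal.Quotient.mk _ H)) _)
  obtain ⟨φ, hφ⟩ := exists_point F H Ω x hFx hH
  have hφi := injective_of_ker F H Ω x (fun p => (hker p).1) φ hφ
  let εΩ : Ω ⊗[A] E →ₐ[Ω] L₀ :=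
    Algebra.TensorProduct.lift (Algebra.ofId Ω L₀) E.val fun _ _ => .all _ _
  have hεφ : εΩ.comp (Algebra.TensorProduct.map (AlgHom.id Ω Ω) β) = φ := by
    refine AlgHom.ext fun z => ?_
    obtain ⟨n, p, hp⟩ := toHypBC_surj F H Ω z
    let ψ := εΩ.comp (Algebra.TensorProduct.map (AlgHom.id Ω Ω) β)
    have h1 : ∀ p, ψ (toHypBC F H Ω p) = φ (toHypBC F H Ω p) := fun p =>
      DFunLike.congr_fun (algHom_ext (f := ψ.comp (toHypBC F H Ω)) (g := φ.comp (toHypBC F H Ω))
        fun i => by simp [ψ, toHypBC, εΩ, hβ, hβ₀, hφ]) p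
    have h2 := h1 p
    rw [← hp, map_mul, map_mul] at h2
    have h3 := h1 (H.map (algebraMap A Ω))
    rw [toHypBC_map] at h3
    rw [map_pow, map_pow, h3] at h2
    exact mul_right_cancel₀ (pow_ne_zero n (by rwa [hφ])) h2
  obtain ⟨a₁, ha₁, hinj⟩ := injective_baseChange (B := HypRing F H) Ω hΩ
    (Algebra.linearMap (HypRing F H) E) fun m hm => hφi (by
      rw [map_zero, ← hεφ, AlgHom.comp_apply, Algebra.TensorProduct.map_tmul]
      exact (congrArg εΩ hm).trans (map_zero _))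
  have : Nontrivial (Ω ⊗[A] HypRing F H) := φ.toRingHom.domain_nontrivial
  obtain ⟨a₂, ha₂, hnt⟩ := exists_nontrivial (B := HypRing F H) Ω (HypRing F H) hΩ
  letI : Algebra (FractionRing A) Ω := (IsFractionRing.lift hΩ).toAlgebra
  have : IsScalarTower A (FractionRing A) Ω :=
    IsScalarTower.of_algebraMap_eq fun r => (IsFractionRing.lift_algebraMap hΩ r).symm
  obtain ⟨a₃, ha₃, hirr⟩ := Groth.Agent.H56.PolyIrred.exists_irreducible_map Ω F hF
  refine ⟨a₁ * a₂ * a₃, mul_ne_zero (mul_ne_zero ha₁ ha₂) ha₃, fun L _ _ hL => ?_⟩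
  simp only [map_mul, mul_ne_zero_iff] at hL
  obtain ⟨⟨hL₁, hL₂⟩, hL₃⟩ := hL
  have := hnt L hL₂
  have := isDomain_hypRing F H L (hirr L hL₃)
  let βL : L ⊗[A] HypRing F H →ₐ[L] L ⊗[A] E := Algebra.TensorProduct.map (AlgHom.id L L) β
  have hβeq : ∀ z, βL z =
      ((Algebra.linearMap (HypRing F H) E).restrictScalars A).baseChange L z := by
    intro z
    induction z using TensorProduct.induction_on with
    | zero => rw [map_zero, map_zero]
    | tmul l m =>
      rw [Algebra.TensorProduct.map_tmul, LinearMap.baseChange_tmul, LinearMap.restrictScalars_apply]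
      rfl
    | add a b ha hb => rw [map_add, map_add, ha, hb]
  have hβLi : Function.Injective βL := fun z w hzw =>
    hinj L hL₁ (by rw [← hβeq, ← hβeq, hzw])
  have hβLs : Function.Surjective βL := fun z => by
    induction z using TensorProduct.induction_on with
    | zero => exact ⟨0, map_zero _⟩
    | tmul l e =>
      obtain ⟨m, rfl⟩ := hβs e
      exact ⟨l ⊗ₜ m, Algebra.TensorProduct.map_tmul _ _ _ _⟩
    | add a b ha hb =>
      obtain ⟨a', ha'⟩ := ha
      obtain ⟨b', hb'⟩ := hb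
      exact ⟨a' + b', by rw [map_add, ha', hb']⟩
  let eβ := RingEquiv.ofBijective βL.toRingHom ⟨hβLi, hβLs⟩
  exact Function.Injective.isDomain eβ.symm.toRingHom eβ.symm.injective

omit [IsDomain A] [Algebra.FiniteType A B] in
theorem ker_le_of_away (G : B) (L : Type u) [Field L] [Algebra A L]
    (hreg : ∀ z : L ⊗[A] B, IsNilpotent (((1 : L) ⊗ₜ G) * z) → IsNilpotent z)
    {E : Type u} [CommRing E] [Algebra A E] (γ : Localization.Away G →ₐ[A] E)
    (hγs : Function.Surjective γ)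
    (hnil : ∀ y, γ y = 0 → IsNilpotent ((1 : L) ⊗ₜ[A] y)) (z : L ⊗[A] B)
    (hz : Algebra.TensorProduct.map (AlgHom.id L L)
      (γ.comp (IsScalarTower.toAlgHom A B (Localization.Away G))) z = 0) : IsNilpotent z := by
  let BG := Localization.Away G
  let ρ : L ⊗[A] B →ₐ[L] L ⊗[A] BG :=
    Algebra.TensorProduct.map (AlgHom.id L L) (IsScalarTower.toAlgHom A B BG)
  let αL : L ⊗[A] BG →ₐ[L] L ⊗[A] E := Algebra.TensorProduct.map (AlgHom.id L L) γ
  have hker : RingHom.ker αL ≤ nilradical (L ⊗[A] BG) := by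
    show RingHom.ker (Algebra.TensorProduct.map (AlgHom.id A L) γ) ≤ _
    rw [Algebra.TensorProduct.lTensor_ker γ hγs, Ideal.map_le_iff_le_comap]
    exact fun y hy => hnil y hy
  have hz' : αL (ρ z) = 0 := by
    rw [← AlgHom.comp_apply, show αL.comp ρ = Algebra.TensorProduct.map (AlgHom.id L L)
      (γ.comp (IsScalarTower.toAlgHom A B BG)) from Algebra.TensorProduct.ext (Subsingleton.elim _ _)
        (AlgHom.ext fun b => by simp [αL, ρ])]
    exact hz
  obtain ⟨k, hk⟩ := mem_nilradical.1 (hker (show ρ z ∈ RingHom.ker αL from hz'))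
  rw [← map_pow] at hk
  let Q := Localization.Away ((1 : L) ⊗ₜ[A] G)
  let δ₀ : BG →ₐ[A] Q := IsLocalization.liftAlgHom (M := Submonoid.powers G)
    (f := (IsScalarTower.toAlgHom A (L ⊗[A] B) Q).comp Algebra.TensorProduct.includeRight) fun y => by
      obtain ⟨n, hn⟩ := y.2
      rw [← hn, map_pow]
      exact (IsLocalization.Away.algebraMap_isUnit ((1 : L) ⊗ₜ[A] G)).pow n
  let δ : L ⊗[A] BG →ₐ[L] Q :=
    Algebra.TensorProduct.lift (Algebra.ofId L Q) δ₀ fun _ _ => .all _ _
  have hδ : δ.comp ρ = IsScalarTower.toAlgHom L (L ⊗[A] B) Q :=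
    Algebra.TensorProduct.ext (Subsingleton.elim _ _) (AlgHom.ext fun b => by
      simp only [δ, ρ, AlgHom.comp_apply, AlgHom.restrictScalars_apply,
        Algebra.TensorProduct.includeRight_apply, Algebra.TensorProduct.map_tmul,
        Algebra.TensorProduct.lift_tmul, map_one, one_mul]
      exact (IsLocalization.liftAlgHom_apply ..).trans (IsLocalization.lift_eq _ _))
  have h0 : algebraMap (L ⊗[A] B) Q (z ^ k) = 0 := by
    have := DFunLike.congr_fun hδ (z ^ k)
    rw [AlgHom.comp_apply, hk, map_zero] at this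
    exact this.symm
  obtain ⟨⟨_, n, rfl⟩, hn⟩ :=
    (IsLocalization.map_eq_zero_iff (Submonoid.powers ((1 : L) ⊗ₜ[A] G)) Q _).1 h0
  refine hreg z ⟨n + k, ?_⟩
  rw [mul_pow, pow_add, pow_add, mul_assoc, mul_comm (((1 : L) ⊗ₜ[A] G) ^ k), ← mul_assoc,
    ← mul_assoc, mul_right_comm _ (z ^ n) (z ^ k)]
  simp only at hn
  rw [hn, zero_mul, zero_mul]

/-- The kernel side of the algebra. -/
theorem alg_side (Ω : Type u) [Field Ω] [Algebra A Ω] (hΩ : Function.Injective (algebraMap A Ω))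
    {L₀ : Type u} [Field L₀] [Algebra Ω L₀] [Algebra A L₀] [IsScalarTower A Ω L₀] (τ : B →ₐ[A] L₀)
    (hnil : ∀ z : Ω ⊗[A] B,
      Algebra.TensorProduct.lift (Algebra.ofId Ω L₀) τ (fun _ _ => .all _ _) z = 0 ↔ IsNilpotent z)
    (G : B) (hG : τ G ≠ 0) (E : Subalgebra A L₀)
    (hE : E = Algebra.adjoin A (Set.range τ ∪ {(τ G)⁻¹})) :
    ∃ a : A, a ≠ 0 ∧ ∀ (L : Type u) [Field L] [Algebra A L], algebraMap A L a ≠ 0 →
      IsDomain (L ⊗[A] E) → (nilradical (L ⊗[A] B)).IsPrime := by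
  let τΩ : Ω ⊗[A] B →ₐ[Ω] L₀ :=
    Algebra.TensorProduct.lift (Algebra.ofId Ω L₀) τ fun _ _ => .all _ _
  have hτΩ : ∀ b, τΩ ((1 : Ω) ⊗ₜ b) = τ b := fun b => by simp [τΩ]
  have hmemB : ∀ b, τ b ∈ E := fun b => by
    rw [hE]
    exact Algebra.subset_adjoin (Or.inl ⟨b, rfl⟩)
  let γ₀ : B →ₐ[A] E := τ.codRestrict E hmemB
  have hGu : IsUnit (γ₀ G) := IsUnit.of_mul_eq_one ⟨(τ G)⁻¹, by
      rw [hE]
      exact Algebra.subset_adjoin (Or.inr rfl)⟩
    (Subtype.ext (mul_inv_cancel₀ hG))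
  let BG := Localization.Away G
  have : Algebra.FiniteType A BG := Algebra.FiniteType.trans (S := B) inferInstance
    (IsLocalization.finiteType_of_monoid_fg (Submonoid.powers G) _)
  let γ : BG →ₐ[A] E := IsLocalization.liftAlgHom (M := Submonoid.powers G) (f := γ₀) fun y => by
    obtain ⟨n, hn⟩ := y.2
    rw [← hn, map_pow]
    exact hGu.pow n
  have hγ : ∀ b, γ (algebraMap B BG b) = γ₀ b := fun b =>
    (IsLocalization.liftAlgHom_apply ..).trans (IsLocalization.lift_eq _ _)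
  have hγs : Function.Surjective γ := by
    have h : (E : Set L₀) ⊆ ↑(E.val.comp γ).range := by
      refine SetLike.coe_subset_coe.2 (hE.le.trans (Algebra.adjoin_le ?_))
      rintro _ (⟨b, rfl⟩ | h)
      · exact ⟨algebraMap B BG b, by simp [hγ, γ₀]⟩
      · rw [Set.mem_singleton_iff.1 h]
        refine ⟨IsLocalization.Away.invSelf (S := BG) G, eq_inv_of_mul_eq_one_left ?_⟩
        have h1 : γ₀ G * γ (IsLocalization.Away.invSelf (S := BG) G) = 1 := by
          rw [← hγ, ← map_mul, IsLocalization.Away.mul_invSelf, map_one]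
        exact (mul_comm _ _).trans (congrArg Subtype.val h1)
    rintro ⟨l, hl⟩
    obtain ⟨z, hz⟩ := h hl
    exact ⟨z, Subtype.ext hz⟩
  obtain ⟨a₄, ha₄, hkill⟩ := exists_killed (B := BG) Ω BG hΩ
  obtain ⟨a₅, ha₅, hreg⟩ := exists_nilpotent_of_mul Ω hΩ G fun z hz => (hnil z).1 (by
    have h : τΩ ((1 : Ω) ⊗ₜ G * z) = 0 := (hnil _).2 hz
    rw [map_mul, hτΩ] at h
    exact (mul_eq_zero.1 h).resolve_left hG)
  refine ⟨a₄ * a₅, mul_ne_zero ha₄ ha₅, fun L _ _ hL hdom => ?_⟩
  simp only [map_mul, mul_ne_zero_iff] at hL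
  obtain ⟨hL₄, hL₅⟩ := hL
  have hnilBG : ∀ y : BG, γ y = 0 → IsNilpotent ((1 : L) ⊗ₜ[A] y) := by
    intro y hy
    obtain ⟨n, b, hb⟩ := IsLocalization.Away.surj G y
    have hτb : τ b = 0 := by
      have h := congrArg γ hb
      rw [map_mul, hy, zero_mul, hγ] at h
      exact (congrArg Subtype.val h).symm
    have h2 : IsNilpotent ((1 : Ω) ⊗ₜ[A] b) := (hnil _).1 ((hτΩ b).trans hτb)
    have h3 : IsNilpotent ((1 : Ω) ⊗ₜ[A] algebraMap B BG b) := by
      simpa using h2.map (Algebra.TensorProduct.map (AlgHom.id Ω Ω) (IsScalarTower.toAlgHom A B BG))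
    rw [← hb] at h3
    have hu : IsUnit ((1 : Ω) ⊗ₜ[A] (algebraMap B BG G ^ n)) :=
      (((IsLocalization.Away.algebraMap_isUnit G).pow n).map
        (Algebra.TensorProduct.includeRight : BG →ₐ[A] Ω ⊗[A] BG))
    rw [show (1 : Ω) ⊗ₜ[A] (y * algebraMap B BG G ^ n) =
        ((1 : Ω) ⊗ₜ[A] y) * ((1 : Ω) ⊗ₜ[A] (algebraMap B BG G ^ n)) by
      rw [Algebra.TensorProduct.tmul_mul_tmul, one_mul]] at h3
    obtain ⟨k, hk⟩ := (hu.isNilpotent_mul_unit_of_commute_iff (Commute.all _ _)).1 h3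
    refine ⟨k, ?_⟩
    rw [Algebra.TensorProduct.tmul_pow, one_pow] at hk ⊢
    exact hkill L hL₄ _ hk
  let Φ : L ⊗[A] B →ₐ[L] L ⊗[A] E :=
    Algebra.TensorProduct.map (AlgHom.id L L) (γ.comp (IsScalarTower.toAlgHom A B BG))
  suffices hk : nilradical (L ⊗[A] B) = RingHom.ker Φ by
    rw [hk]
    exact RingHom.ker_isPrime _
  exact le_antisymm (fun z hz => (IsNilpotent.map (mem_nilradical.1 hz) Φ).eq_zero)
    fun z hz => mem_nilradical.2 (ker_le_of_away G L (hreg L hL₅) γ hγs hnilBG z hz)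

/-- The spreading out, given a birational hypersurface model over the base. -/
theorem core (Ω : Type u) [Field Ω] [IsAlgClosed Ω] [Algebra A Ω]
    (hΩ : Function.Injective (algebraMap A Ω)) {L₀ : Type u} [Field L₀] [Algebra Ω L₀] [Algebra A L₀]
    [IsScalarTower A Ω L₀] (τ : B →ₐ[A] L₀)
    (hnil : ∀ z : Ω ⊗[A] B,
      Algebra.TensorProduct.lift (Algebra.ofId Ω L₀) τ (fun _ _ => .all _ _) z = 0 ↔ IsNilpotent z)
    (x : Fin N → L₀) (hF : Irreducible (F.map (algebraMap A Ω)))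
    (hker : ∀ p : MvPolynomial (Fin N) Ω, aeval x p = 0 ↔ F.map (algebraMap A Ω) ∣ p)
    (G : B) (hG : τ G ≠ 0) (hH : aeval x H ≠ 0)
    (heq : Algebra.adjoin A (Set.range τ ∪ {(τ G)⁻¹}) =
      Algebra.adjoin A (Set.range x ∪ {(aeval x H)⁻¹})) :
    ∃ a : A, a ≠ 0 ∧ ∀ (L : Type u) [Field L] [Algebra A L], algebraMap A L a ≠ 0 →
      (nilradical (L ⊗[A] B)).IsPrime := by
  obtain ⟨a, ha, hd⟩ := hyp_side F H Ω hΩ _ x hF hker hH heq
  obtain ⟨b, hb, hp⟩ := alg_side Ω hΩ τ hnil G hG _ rfl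
  refine ⟨a * b, mul_ne_zero ha hb, fun L _ _ hL => ?_⟩
  simp only [map_mul, mul_ne_zero_iff] at hL
  exact hp L hL.2 (hd L hL.1)

theorem exists_map_of_coeffs {σ : Type*} {R : Type u} {S : Type u} [CommRing R] [CommRing S]
    (f : R →+* S) (p : MvPolynomial σ S) (h : ∀ c ∈ p.coeffs, c ∈ f.range) :
    ∃ q : MvPolynomial σ R, q.map f = p :=
  RingHom.mem_range.1 (mem_range_map_iff_coeffs_subset.2 fun c hc => h c hc)

omit [IsDomain A] [Algebra.FiniteType A B] in
/-- Changing the base of a point to an intermediate ring. -/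
theorem lift_isNilpotent_iff {A' : Type u} [CommRing A'] [Algebra A A'] {Ω : Type u} [Field Ω]
    [Algebra A Ω] [Algebra A' Ω] [IsScalarTower A A' Ω] {L₀ : Type u} [Field L₀] [Algebra Ω L₀]
    [Algebra A L₀] [Algebra A' L₀] [IsScalarTower A' Ω L₀] [IsScalarTower A A' L₀]
    [IsScalarTower A Ω L₀]
    (τ₀ : B →ₐ[A] L₀) (hnil : ∀ z : Ω ⊗[A] B,
      Algebra.TensorProduct.lift (Algebra.ofId Ω L₀) τ₀ (fun _ _ => .all _ _) z = 0 ↔ IsNilpotent z)
    (z : Ω ⊗[A'] (A' ⊗[A] B)) :
    Algebra.TensorProduct.lift (Algebra.ofId Ω L₀)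
      (Algebra.TensorProduct.lift (Algebra.ofId A' L₀) τ₀ fun _ _ => .all _ _) (fun _ _ => .all _ _) z = 0 ↔
      IsNilpotent z := by
  let e : Ω ⊗[A'] (A' ⊗[A] B) ≃ₐ[Ω] Ω ⊗[A] B := Algebra.TensorProduct.cancelBaseChange A A' Ω Ω B
  have key : ∀ w : Ω ⊗[A'] (A' ⊗[A] B), Algebra.TensorProduct.lift (Algebra.ofId Ω L₀)
      (Algebra.TensorProduct.lift (Algebra.ofId A' L₀) τ₀ fun _ _ => .all _ _) (fun _ _ => .all _ _) w =
      Algebra.TensorProduct.lift (Algebra.ofId Ω L₀) τ₀ (fun _ _ => .all _ _) (e w) := by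
    intro w
    induction w using TensorProduct.induction_on with
    | zero => rw [map_zero, map_zero, map_zero]
    | tmul o y =>
      induction y using TensorProduct.induction_on with
      | zero => rw [TensorProduct.tmul_zero, map_zero, map_zero, map_zero]
      | tmul a b =>
        rw [Algebra.TensorProduct.lift_tmul, Algebra.TensorProduct.lift_tmul,
          Algebra.TensorProduct.cancelBaseChange_tmul, Algebra.TensorProduct.lift_tmul,
          Algebra.ofId_apply, Algebra.ofId_apply, Algebra.ofId_apply, Algebra.smul_def, map_mul,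
          ← IsScalarTower.algebraMap_apply]
        ring
      | add p q hp hq =>
        rw [TensorProduct.tmul_add, map_add, map_add, map_add, hp, hq]
    | add p q hp hq => rw [map_add, map_add, map_add, hp, hq]
  rw [key, hnil]
  exact IsNilpotent.map_iff e.injective

omit [IsDomain A] [Algebra.FiniteType A B] in
theorem range_lift_eq {A' : Type u} [CommRing A'] [Algebra A A'] {L₀ : Type u} [CommRing L₀]
    [Algebra A L₀] [Algebra A' L₀] [IsScalarTower A A' L₀] {m : ℕ} (π : MvPolynomial (Fin m) A →ₐ[A] B)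
    (hπ : Function.Surjective π) (τ₀ : B →ₐ[A] L₀) :
    (Algebra.TensorProduct.lift (Algebra.ofId A' L₀) τ₀ fun _ _ => .all _ _).range =
      Algebra.adjoin A' (Set.range fun j => τ₀ (π (X j))) := by
  let c : Fin m → L₀ := fun j => τ₀ (π (X j))
  let τ : A' ⊗[A] B →ₐ[A'] L₀ := Algebra.TensorProduct.lift (Algebra.ofId A' L₀) τ₀ fun _ _ => .all _ _
  refine le_antisymm ?_ (Algebra.adjoin_le ?_)
  · rintro _ ⟨y, rfl⟩
    show τ y ∈ _
    induction y using TensorProduct.induction_on with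
    | zero => simp [zero_mem]
    | tmul w b =>
      obtain ⟨q, rfl⟩ := hπ b
      rw [Algebra.TensorProduct.lift_tmul]
      refine mul_mem (Subalgebra.algebraMap_mem _ w) ?_
      have hq : τ₀ (π q) = aeval c (q.map (algebraMap A A')) := by
        rw [aeval_map_algebraMap]
        exact (DFunLike.congr_fun (algHom_ext (f := aeval c) (g := τ₀.comp π) fun j => by simp [c]) q).symm
      rw [hq, Algebra.adjoin_range_eq_range_aeval]
      exact ⟨_, rfl⟩
    | add a b ha hb => rw [map_add]; exact add_mem ha hb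
  · rintro _ ⟨j, rfl⟩
    exact ⟨(1 : A') ⊗ₜ π (X j), by simp⟩

/-- Descending along a finite type extension with a point in `Ω`. -/
theorem descend (Ω : Type u) [Field Ω] [Algebra A Ω] (hΩ : Function.Injective (algebraMap A Ω))
    (R : Type u) [CommRing R] [Algebra A R] [Algebra.FiniteType A R] (toΩ : R →ₐ[A] Ω)
    (h : ∀ (L : Type u) [Field L] [Algebra A L], (R →ₐ[A] L) → (nilradical (L ⊗[A] B)).IsPrime) :
    ∃ a : A, a ≠ 0 ∧ ∀ (L : Type u) [Field L] [Algebra A L], algebraMap A L a ≠ 0 →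
      (nilradical (L ⊗[A] B)).IsPrime := by
  have : Nontrivial (Ω ⊗[A] R) :=
    (Algebra.TensorProduct.lift (Algebra.ofId Ω Ω) toΩ fun _ _ => .all _ _).toRingHom.domain_nontrivial
  obtain ⟨a, ha, hLA⟩ := exists_nontrivial (B := R) Ω R hΩ
  refine ⟨a, ha, fun L _ _ hLa => ?_⟩
  have := hLA L hLa
  obtain ⟨mm, hmm⟩ := Ideal.exists_maximal (L ⊗[A] R)
  let L' := (L ⊗[A] R) ⧸ mm
  letI : Field L' := Ideal.Quotient.field mm
  have h2 := h L' ((Ideal.Quotient.mkₐ A mm).comp Algebra.TensorProduct.includeRight)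
  refine isPrime_nilradical_of_injective
    (Algebra.TensorProduct.map (IsScalarTower.toAlgHom A L L') (AlgHom.id A B)).toRingHom ?_ h2
  exact H47.GenericExact.rTensor_injective_of_free (R := A) (A := L) (K := L')
    (algebraMap L L').injective B

omit [IsDomain A] [Algebra.FiniteType A B] in
theorem of_away {A' : Type u} [CommRing A'] [Algebra A A'] (a' : A')
    (hL' : ∀ (L : Type u) [Field L] [Algebra A' L], algebraMap A' L a' ≠ 0 →
      (nilradical (L ⊗[A'] (A' ⊗[A] B))).IsPrime)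
    (L : Type u) [Field L] [Algebra A L] (g : Localization.Away a' →ₐ[A] L) :
    (nilradical (L ⊗[A] B)).IsPrime := by
  letI : Algebra A' L := (g.comp (IsScalarTower.toAlgHom A A' (Localization.Away a'))).toRingHom.toAlgebra
  have : IsScalarTower A A' L := IsScalarTower.of_algebraMap_eq fun r =>
    ((g.comp (IsScalarTower.toAlgHom A A' (Localization.Away a'))).commutes r).symm
  have ha'L : algebraMap A' L a' ≠ 0 :=
    ((IsLocalization.Away.algebraMap_isUnit (S := Localization.Away a') a').map g).ne_zero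
  exact isPrime_nilradical_of_equiv
    (Algebra.TensorProduct.cancelBaseChange A A' L L B).symm.toRingEquiv (hL' L ha'L)

omit [IsDomain A] in
theorem finiteType_away {A' : Type u} [CommRing A'] [Algebra A A'] [Algebra.FiniteType A A'] (a' : A') :
    Algebra.FiniteType A (Localization.Away a') :=
  Algebra.FiniteType.trans (S := A') inferInstance
    (IsLocalization.finiteType_of_monoid_fg (Submonoid.powers a') _)

omit [IsDomain A] in
theorem nonempty_toΩ {A' : Type u} [CommRing A'] [Algebra A A'] {Ω : Type u} [Field Ω] [Algebra A Ω]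
    (ι : A' →ₐ[A] Ω) (a' : A') (ha' : ι a' ≠ 0) : Nonempty (Localization.Away a' →ₐ[A] Ω) :=
  ⟨IsLocalization.liftAlgHom (M := Submonoid.powers a') (f := ι) fun y => by
    obtain ⟨n, hn⟩ := y.2
    rw [← hn, map_pow]
    exact (isUnit_iff_ne_zero.2 ha').pow n⟩

set_option maxHeartbeats 1000000 in
/-- Spreading out from a point with values in a function field. -/
theorem of_model (Ω : Type u) [Field Ω] [IsAlgClosed Ω] [Algebra A Ω]
    (hΩ : Function.Injective (algebraMap A Ω)) {L₀ : Type u} [Field L₀] [Algebra Ω L₀] [Algebra A L₀]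
    [IsScalarTower A Ω L₀] {m : ℕ} (π : MvPolynomial (Fin m) A →ₐ[A] B) (hπ : Function.Surjective π)
    (τ₀ : B →ₐ[A] L₀) (hnil₀ : ∀ z : Ω ⊗[A] B,
      Algebra.TensorProduct.lift (Algebra.ofId Ω L₀) τ₀ (fun _ _ => .all _ _) z = 0 ↔ IsNilpotent z)
    (c : Fin m → L₀) (hcdef : c = fun j => τ₀ (π (X j)))
    (hc : IntermediateField.adjoin Ω (Set.range c) = ⊤) :
    ∃ a : A, a ≠ 0 ∧ ∀ (L : Type u) [Field L] [Algebra A L], algebraMap A L a ≠ 0 →
      (nilradical (L ⊗[A] B)).IsPrime := by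
  classical
  subst hcdef
  let c : Fin m → L₀ := fun j => τ₀ (π (X j))
  obtain ⟨N, x, F, hF, hker, hx⟩ := exists_hypersurface c hc
  have hcx : ∀ j, ∃ p q : MvPolynomial (Fin N) Ω, c j = aeval x p / aeval x q := fun j =>
    (IntermediateField.mem_adjoin_range_iff Ω x (c j)).1 (hx ▸ IntermediateField.mem_top)
  have hxc : ∀ i, ∃ p q : MvPolynomial (Fin m) Ω, x i = aeval c p / aeval c q := fun i =>
    (IntermediateField.mem_adjoin_range_iff Ω c (x i)).1 (hc ▸ IntermediateField.mem_top)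
  choose p₁ q₁ hpq₁ using hcx
  choose p₂ q₂ hpq₂ using hxc
  let coefs : Finset Ω := F.coeffs ∪ Finset.univ.biUnion (fun j => (p₁ j).coeffs ∪ (q₁ j).coeffs) ∪
    Finset.univ.biUnion (fun i => (p₂ i).coeffs ∪ (q₂ i).coeffs)
  let A' := Algebra.adjoin A (coefs : Set Ω)
  have : Algebra.FiniteType A A' :=
    (Subalgebra.fg_iff_finiteType A').1 (Subalgebra.fg_adjoin_finset coefs)
  have hA' : Function.Injective (algebraMap A' Ω) := Subtype.val_injective
  have hcoef : ∀ w ∈ coefs, w ∈ (algebraMap A' Ω).range := fun w hw =>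
    ⟨⟨w, Algebra.subset_adjoin hw⟩, rfl⟩
  obtain ⟨F', hF'⟩ := exists_map_of_coeffs (algebraMap A' Ω) F fun w hw => hcoef w (by simp [coefs, hw])
  rw [← hF'] at hF hker
  let B' := A' ⊗[A] B
  let τ : B' →ₐ[A'] L₀ := Algebra.TensorProduct.lift (Algebra.ofId A' L₀) τ₀ fun _ _ => .all _ _
  have hnil : ∀ z : Ω ⊗[A'] B',
      Algebra.TensorProduct.lift (Algebra.ofId Ω L₀) τ (fun _ _ => .all _ _) z = 0 ↔ IsNilpotent z :=
    lift_isNilpotent_iff τ₀ hnil₀
  have hτr : τ.range = Algebra.adjoin A' (Set.range c) := range_lift_eq π hπ τ₀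
  have hratio : ∀ {k : ℕ} (y : Fin k → L₀) (p q : MvPolynomial (Fin k) Ω) (l : L₀),
      (∀ w ∈ p.coeffs ∪ q.coeffs, w ∈ coefs) → l = aeval y p / aeval y q →
        ∃ p' ∈ Algebra.adjoin A' (Set.range y), ∃ q' ∈ Algebra.adjoin A' (Set.range y),
          q' ≠ 0 ∧ l = p' / q' := by
    intro k y p q l hw hl
    obtain ⟨p', rfl⟩ := exists_map_of_coeffs (algebraMap A' Ω) p
      fun w h => hcoef w (hw w (Finset.mem_union_left _ h))
    obtain ⟨q', rfl⟩ := exists_map_of_coeffs (algebraMap A' Ω) q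
      fun w h => hcoef w (hw w (Finset.mem_union_right _ h))
    rw [aeval_map_algebraMap, aeval_map_algebraMap] at hl
    have hmem : ∀ r : MvPolynomial (Fin k) A', aeval y r ∈ Algebra.adjoin A' (Set.range y) := fun r => by
      rw [Algebra.adjoin_range_eq_range_aeval]
      exact ⟨r, rfl⟩
    by_cases hq0 : aeval y q' = 0
    · exact ⟨0, zero_mem _, 1, one_mem _, one_ne_zero, by rw [hl, hq0, div_zero, zero_div]⟩
    · exact ⟨_, hmem p', _, hmem q', hq0, hl⟩
  obtain ⟨G₀, hG₀, H₀, hH₀, hG0, hH0, heq⟩ := exists_adjoin_eq (R := A') (Set.finite_range c)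
    (Set.finite_range x)
    (by
      rintro _ ⟨i, rfl⟩
      exact hratio c _ _ _ (fun w hw => by
        simp only [coefs, Finset.mem_union, Finset.mem_biUnion, Finset.mem_univ, true_and]
        exact Or.inr ⟨i, Finset.mem_union.1 hw⟩) (hpq₂ i))
    (by
      rintro _ ⟨j, rfl⟩
      exact hratio x _ _ _ (fun w hw => by
        simp only [coefs, Finset.mem_union, Finset.mem_biUnion, Finset.mem_univ, true_and]
        exact Or.inl (Or.inr ⟨j, Finset.mem_union.1 hw⟩)) (hpq₁ j))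
  rw [← hτr] at hG₀
  obtain ⟨G, rfl⟩ := hG₀
  rw [Algebra.adjoin_range_eq_range_aeval] at hH₀
  obtain ⟨H, rfl⟩ := hH₀
  have heq' : Algebra.adjoin A' (Set.range τ ∪ {(τ G)⁻¹}) =
      Algebra.adjoin A' (Set.range x ∪ {(aeval x H)⁻¹}) := by
    refine Eq.trans ?_ heq
    rw [Algebra.adjoin_union, Algebra.adjoin_union, ← hτr,
      show Algebra.adjoin A' (Set.range τ) = τ.range from
        (congrArg (Algebra.adjoin A') τ.coe_range.symm).trans (Algebra.adjoin_eq _)]
    rfl
  obtain ⟨a', ha', hL'⟩ := core F' H Ω hA' τ hnil x hF hker G hG0 hH0 heq'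
  have := finiteType_away (A := A) a'
  obtain ⟨toΩ⟩ := nonempty_toΩ A'.val a' fun h0 => ha' (Subtype.ext h0)
  exact descend Ω hΩ (Localization.Away a') toΩ fun L _ _ g => of_away a' hL' L g

set_option maxHeartbeats 1000000 in
/-- Geometric irreducibility spreads out. -/
theorem exists_isPrime_nilradical (Ω : Type u) [Field Ω] [IsAlgClosed Ω] [Algebra A Ω]
    (hΩ : Function.Injective (algebraMap A Ω)) (h : (nilradical (Ω ⊗[A] B)).IsPrime) :
    ∃ a : A, a ≠ 0 ∧ ∀ (L : Type u) [Field L] [Algebra A L], algebraMap A L a ≠ 0 →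
      (nilradical (L ⊗[A] B)).IsPrime := by
  classical
  let C := (Ω ⊗[A] B) ⧸ nilradical (Ω ⊗[A] B)
  let L₀ := FractionRing C
  let τΩ : Ω ⊗[A] B →ₐ[Ω] L₀ :=
    (IsScalarTower.toAlgHom Ω C L₀).comp (Ideal.Quotient.mkₐ Ω (nilradical (Ω ⊗[A] B)))
  have hτnil : ∀ z, τΩ z = 0 ↔ IsNilpotent z := fun z => by
    show algebraMap C L₀ (Ideal.Quotient.mk _ z) = 0 ↔ _
    rw [map_eq_zero_iff _ (IsFractionRing.injective C L₀), Ideal.Quotient.eq_zero_iff_mem,
      mem_nilradical]
  obtain ⟨m, π, hπ⟩ := Algebra.FiniteType.iff_quotient_mvPolynomial''.1 ‹Algebra.FiniteType A B›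
  let c : Fin m → L₀ := fun j => τΩ ((1 : Ω) ⊗ₜ π (X j))
  have hrange : ∀ z, τΩ z ∈ Algebra.adjoin Ω (Set.range c) := by
    intro z
    induction z using TensorProduct.induction_on with
    | zero => simp [zero_mem]
    | tmul w b =>
      obtain ⟨q, rfl⟩ := hπ b
      rw [show w ⊗ₜ[A] π q = w • ((1 : Ω) ⊗ₜ[A] π q) by rw [smul_tmul', smul_eq_mul, mul_one], map_smul]
      refine Subalgebra.smul_mem _ ?_ w
      rw [Algebra.adjoin_range_eq_range_aeval]
      refine ⟨q.map (algebraMap A Ω), ?_⟩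
      show aeval c (q.map (algebraMap A Ω)) = _
      rw [aeval_map_algebraMap]
      exact DFunLike.congr_fun (algHom_ext (f := aeval c) (g := (τΩ.restrictScalars A).comp
        ((Algebra.TensorProduct.includeRight : B →ₐ[A] Ω ⊗[A] B).comp π)) fun j => by simp [c]) q
    | add a b ha hb => rw [map_add]; exact add_mem ha hb
  have hc : IntermediateField.adjoin Ω (Set.range c) = ⊤ := by
    refine eq_top_iff.2 fun l _ => ?_
    obtain ⟨p, q, -, rfl⟩ := IsFractionRing.div_surjective (A := C) l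
    obtain ⟨p', rfl⟩ := Ideal.Quotient.mk_surjective p
    obtain ⟨q', rfl⟩ := Ideal.Quotient.mk_surjective q
    exact div_mem (IntermediateField.algebra_adjoin_le_adjoin Ω _ (hrange p'))
      (IntermediateField.algebra_adjoin_le_adjoin Ω _ (hrange q'))
  exact of_model Ω hΩ π hπ
    ((τΩ.restrictScalars A).comp (Algebra.TensorProduct.includeRight : B →ₐ[A] Ω ⊗[A] B))
    (fun z => by
      rw [show Algebra.TensorProduct.lift (Algebra.ofId Ω L₀)
        ((τΩ.restrictScalars A).comp (Algebra.TensorProduct.includeRight : B →ₐ[A] Ω ⊗[A] B))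
        (fun _ _ => .all _ _) = τΩ from
          Algebra.TensorProduct.ext (Subsingleton.elim _ _) (AlgHom.ext fun b => by simp)]
      exact hτnil z) c rfl hc

end Groth.Agent.H46.GeomSpread
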