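import Groth.Agent.H46.GeomSpread.Spread
import Groth.Agent.H56.NearGeneric.Model
import Groth.Agent.Lib.GeomConn.SepClosed
import Groth.Prelude.Def_MoreMor
import Mathlib.AlgebraicGeometry.Geometrically.Connected
import Mathlib.FieldTheory.IsSepClosed
import Mathlib.FieldTheory.IsAlgClosed.AlgebraicClosure

/-!
# The numbers of components of geometric fibres
-/

set_option autoImplicit false
set_option linter.style.haveILetI false
noncomputable section

universe u

open CategoryTheory CategoryTheory.Limits AlgebraicGeometry TensorProduct TopologicalSpace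

namespace Groth.Agent.H46.GeomSpread

open Groth.Agent.H56.NearGeneric
open Groth.Agent.Lib.GeomConn

/-- The number of irreducible components. -/
abbrev nI (W : Scheme.{u}) : ℕ∞ := (irreducibleComponents ↑W).encard

/-- The number of connected components. -/
abbrev nC (W : Scheme.{u}) : ℕ∞ := ENat.card (_root_.ConnectedComponents ↑W)

theorem counts_eq_of_map {W W' : Scheme.{u}} (g : W ⟶ W') [GeometricallyIrreducible g]
    [GeometricallyConnected g] (hg : IsOpenMap g) : nI W = nI W' ∧ nC W = nC W' :=
  ⟨Set.encard_congr (g.irreducibleComponentsEquiv hg),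
    card_connectedComponents_of_fibres g.continuous (fun z =>
      (g.isConnected_preimage hg isConnected_connectedComponent isClosed_connectedComponent).isPreconnected)
      g.surjective⟩

theorem counts_eq_of_iso {W W' : Scheme.{u}} (e : W ≅ W') : nI W = nI W' ∧ nC W = nC W' := by
  have h1 : GeometricallyIrreducible e.hom := ⟨fun L _ y V fst snd hV => by
    have : IsIso snd := hV.isIso_snd_of_isIso
    exact (Scheme.homeoOfIso (asIso snd)).irreducibleSpace_iff.2 inferInstance⟩
  have h2 : GeometricallyConnected e.hom := ⟨fun L _ y V fst snd hV => by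
    have : IsIso snd := hV.isIso_snd_of_isIso
    exact (Scheme.homeoOfIso (asIso snd)).symm.surjective.connectedSpace
      (Scheme.homeoOfIso (asIso snd)).symm.continuous⟩
  exact counts_eq_of_map e.hom (Scheme.homeoOfIso e).isOpenMap

/-- Extending a separably closed field does not change the counts. -/
theorem counts_eq_of_sepClosed {A : CommRingCat.{u}} {Z : Scheme.{u}} (p : Z ⟶ Spec A) (L : Type u)
    [Field L] [Algebra A L] [IsSepClosed L] (L' : Type u) [Field L'] [Algebra A L'] [Algebra L L']
    [IsScalarTower A L L'] : nI (fib p L') = nI (fib p L) ∧ nC (fib p L') = nC (fib p L) := by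
  have h := (isPullback_toBC p L' L).flip
  have h1 : GeometricallyIrreducible (toBC p L' L) :=
    MorphismProperty.of_isPullback h (SepClosed.geometricallyIrreducible_specMap L L')
  have h2 : GeometricallyConnected (toBC p L' L) :=
    MorphismProperty.of_isPullback h (SepClosed.geometricallyConnected_specMap L L')
  have : UniversallyOpen (toBC p L' L) := MorphismProperty.of_isPullback h
    (inferInstance : UniversallyOpen (Spec.map (CommRingCat.ofHom (algebraMap L L'))))
  exact counts_eq_of_map (toBC p L' L) (toBC p L' L).isOpenMap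

section Domain

variable {A : CommRingCat.{u}} [IsDomain A] {Z : Scheme.{u}} (p : Z ⟶ Spec A)
  [LocallyOfFiniteType p] [QuasiCompact p]
  (Ω : Type u) [Field Ω] [IsAlgClosed Ω] [Algebra A Ω]

/-- Near the generic point, all big enough fields see the counts of the generic geometric fibre. -/
theorem exists_counts_ext (hΩ : Function.Injective (algebraMap A Ω)) :
    ∃ a : A, a ≠ 0 ∧ ∀ (L : Type u) [Field L] [Algebra A L], algebraMap A L a ≠ 0 →
      ∃ (L' : Type u) (_ : Field L') (_ : Algebra A L') (_ : L →ₐ[A] L'),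
        nI (fib p L') = nI (fib p Ω) ∧ nC (fib p L') = nC (fib p Ω) := by
  classical
  obtain ⟨R, hR, n, T, hTc, hirr, hcov, hnle⟩ := exists_pieces p Ω
  let AR : CommRingCat.{u} := CommRingCat.of R
  have : IsDomain AR := inferInstanceAs (IsDomain R)
  let q : fib p R ⟶ Spec AR := pullback.snd p (sp A R)
  have key : ∀ (L : Type u) [Field L] [Algebra A L] [Algebra R L] [IsScalarTower A R L],
      (∀ k, IsIrreducible (fibπ q L ⁻¹' T k) ↔ IsIrreducible (toBC p L R ⁻¹' T k)) ∧
      ∀ x, fibπ q L ((bcIso p L R).hom x) = toBC p L R x := by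
    intro L _ _ _ _
    have hx : ∀ x, fibπ q L ((bcIso p L R).hom x) = toBC p L R x := fun x =>
      congrArg (fun f : fib p L ⟶ fib p R => f x) (bcIso_hom_fst p L R)
    refine ⟨fun k => ?_, hx⟩
    let e := Scheme.homeoOfIso (bcIso p L R)
    have heq : toBC p L R ⁻¹' T k = e ⁻¹' (fibπ q L ⁻¹' T k) := by
      ext x
      simp only [Set.mem_preimage, ← hx]
      rfl
    rw [heq, ← e.image_symm]
    exact ⟨fun h => h.image _ e.symm.continuous.continuousOn, fun h => by
      have := h.image e e.continuous.continuousOn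
      rwa [← Set.image_comp, show (e : fib p L → _) ∘ e.symm = id from funext e.apply_symm_apply,
        Set.image_id] at this⟩
  obtain ⟨kΩ, hxΩ⟩ := key Ω
  have hsurj : ∀ (L : Type u) [Field L] [Algebra A L] [Algebra R L] [IsScalarTower A R L] (w : fib q L),
      ∃ x, (bcIso p L R).hom x = w := fun L _ _ _ _ w =>
    (Scheme.homeoOfIso (bcIso p L R)).surjective w
  obtain ⟨r, hr, hnear⟩ := exists_near q Ω (show Function.Injective (algebraMap R Ω) from
      Subtype.val_injective) T hTc (fun k => (kΩ k).2 (hirr k))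
    (fun w => by
      obtain ⟨x, rfl⟩ := hsurj Ω w
      rw [hxΩ]
      exact hcov x)
    (fun k l h => hnle k l fun x hx => by
      have := h (show (bcIso p Ω R).hom x ∈ fibπ q Ω ⁻¹' T k by rw [Set.mem_preimage, hxΩ]; exact hx)
      rwa [Set.mem_preimage, hxΩ] at this)
  have : Algebra.FiniteType A (Localization.Away (r : R)) := finiteType_away (A := A) (r : R)
  obtain ⟨toΩ⟩ := nonempty_toΩ (A := A) R.val (r : R) fun h0 => hr (Subtype.ext h0)
  have : Nontrivial (Ω ⊗[A] Localization.Away (r : R)) :=
    (Algebra.TensorProduct.lift (Algebra.ofId Ω Ω) toΩ fun _ _ => .all _ _).toRingHom.domain_nontrivial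
  obtain ⟨a, ha, hnt⟩ :=
    exists_nontrivial (B := Localization.Away (r : R)) Ω (Localization.Away (r : R)) hΩ
  refine ⟨a, ha, fun L _ _ hLa => ?_⟩
  have := hnt L hLa
  obtain ⟨mm, hmm⟩ := Ideal.exists_maximal (L ⊗[A] Localization.Away (r : R))
  let L' := (L ⊗[A] Localization.Away (r : R)) ⧸ mm
  letI : Field L' := Ideal.Quotient.field mm
  let g : Localization.Away (r : R) →ₐ[A] L' :=
    (Ideal.Quotient.mkₐ A mm).comp Algebra.TensorProduct.includeRight
  letI : Algebra R L' := (g.comp (IsScalarTower.toAlgHom A R (Localization.Away (r : R)))).toRingHom.toAlgebra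
  have : IsScalarTower A R L' := IsScalarTower.of_algebraMap_eq fun z =>
    ((g.comp (IsScalarTower.toAlgHom A R (Localization.Away (r : R)))).commutes z).symm
  have hrL : algebraMap R L' r ≠ 0 :=
    ((IsLocalization.Away.algebraMap_isUnit (S := Localization.Away (r : R)) (r : R)).map g).ne_zero
  refine ⟨L', inferInstance, inferInstance,
    (Ideal.Quotient.mkₐ A mm).comp Algebra.TensorProduct.includeLeft, ?_⟩
  obtain ⟨h1, h2, h3, h4⟩ := hnear L' hrL
  obtain ⟨h5, h6⟩ := counts_eq_of_iso (bcIso p L' R)
  obtain ⟨h7, h8⟩ := counts_eq_of_iso (bcIso p Ω R)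
  have hcl : ∀ (K : Type u) [Field K] [Algebra R K], ∀ k, IsClosed (fibπ q K ⁻¹' T k) :=
    fun K _ _ k => (hTc k).preimage (fibπ q K).continuous
  have hcov' : ∀ w, ∃ k, fibπ q Ω w ∈ T k := fun w => by
    obtain ⟨x, rfl⟩ := hsurj Ω w
    rw [hxΩ]
    exact hcov x
  have hnle' : ∀ k l, fibπ q Ω ⁻¹' T k ⊆ fibπ q Ω ⁻¹' T l → k = l := fun k l h => hnle k l fun x hx => by
    have := h (show (bcIso p Ω R).hom x ∈ fibπ q Ω ⁻¹' T k by rw [Set.mem_preimage, hxΩ]; exact hx)
    rwa [Set.mem_preimage, hxΩ] at this
  have hirr' : ∀ k, IsIrreducible (fibπ q Ω ⁻¹' T k) := fun k => (kΩ k).2 (hirr k)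
  constructor
  · rw [h5, h7]
    show Set.encard _ = Set.encard _
    rw [encard_irreducibleComponents (hcl L') h1 h2 h3,
      encard_irreducibleComponents (hcl Ω) hirr' hcov' hnle']
  · rw [h6, h8]
    exact card_connectedComponents_eq (hcl L') (fun k => (h1 k).isConnected) h2 (hcl Ω)
      (fun k => (hirr' k).isConnected) hcov' h4

/-- Near the generic point, separably closed fields see the generic counts. -/
theorem exists_counts (hΩ : Function.Injective (algebraMap A Ω)) :
    ∃ a : A, a ≠ 0 ∧ ∀ (L : Type u) [Field L] [Algebra A L] [IsSepClosed L], algebraMap A L a ≠ 0 →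
      nI (fib p L) = nI (fib p Ω) ∧ nC (fib p L) = nC (fib p Ω) := by
  obtain ⟨a, ha, h⟩ := exists_counts_ext p Ω hΩ
  refine ⟨a, ha, fun L _ _ _ hLa => ?_⟩
  obtain ⟨L', _, _, φ, h1, h2⟩ := h L hLa
  letI := φ.toRingHom.toAlgebra
  have : IsScalarTower A L L' := IsScalarTower.of_algebraMap_eq fun z => (φ.commutes z).symm
  obtain ⟨h3, h4⟩ := counts_eq_of_sepClosed p L L'
  exact ⟨h3.symm.trans h1, h4.symm.trans h2⟩

end Domain

/-- Identification of a geometric fibre with a base change of an affine model. -/
def geomFiberIso {X Y : Scheme.{u}} (f : X ⟶ Y) {A : CommRingCat.{u}} (u : Spec A ⟶ Y) {y : Y}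
    (ψ : A ⟶ Y.residueField y) (hψ : Spec.map ψ ≫ u = Y.fromSpecResidueField y) :
    letI := ((algebraMap (Y.residueField y) (SeparableClosure (Y.residueField y))).comp ψ.hom).toAlgebra
    fib (pullback.snd f u) (SeparableClosure (Y.residueField y)) ≅ MoreMor.geomFiber f y :=
  letI := ((algebraMap (Y.residueField y) (SeparableClosure (Y.residueField y))).comp ψ.hom).toAlgebra
  pullbackLeftPullbackSndIso f u (sp A (SeparableClosure (Y.residueField y))) ≪≫
    pullback.congrHom rfl (by
      rw [← hψ, ← Category.assoc, ← Spec.map_comp]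
      congr 2) ≪≫
    (pullbackLeftPullbackSndIso f (Y.fromSpecResidueField y)
      (Spec.map (CommRingCat.ofHom
        (algebraMap (Y.residueField y) (SeparableClosure (Y.residueField y)))))).symm

variable {X Y : Scheme.{u}} (f : X ⟶ Y)

/-- The counts of components of geometric fibres are constant near the generic point. -/
theorem exists_open_counts [IrreducibleSpace Y] [LocallyOfFiniteType f] [QuasiCompact f] (η : Y)
    (hη : IsGenericPoint η Set.univ) :
    ∃ V : Y.Opens, (V : Set Y).Nonempty ∧ ∀ y ∈ V,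
      MoreMor.nGeomIrredComp f y = MoreMor.nGeomIrredComp f η ∧
        MoreMor.nGeomConnComp f y = MoreMor.nGeomConnComp f η := by
  obtain ⟨A, hA, u, hu, hnear⟩ := exists_domain_chart Y
  have hmem : ∀ V : Y.Opens, (V : Set Y).Nonempty → η ∈ V := fun V hV =>
    (hη.mem_open_set_iff V.2).2 (by simpa using hV)
  obtain ⟨V₁, hV₁, h₁⟩ := hnear 1 one_ne_zero
  obtain ⟨ψ, -, hψ⟩ := h₁ η (hmem V₁ hV₁)
  have hinj : Function.Injective ψ := (injective_iff_map_eq_zero ψ.hom).2 fun a ha =>
    by_contra fun hne => by
      obtain ⟨V, hV, h⟩ := hnear a hne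
      obtain ⟨ψ', hψ'a, hψ'⟩ := h η (hmem V hV)
      rw [show ψ' = ψ from Spec.map_injective (by rwa [← cancel_mono u, hψ])] at hψ'a
      exact hψ'a ha
  let κ := Y.residueField η
  let Ω := AlgebraicClosure κ
  let K := SeparableClosure κ
  letI algK : Algebra A K := ((algebraMap κ K).comp ψ.hom).toAlgebra
  letI algΩ : Algebra A Ω := ((algebraMap κ Ω).comp ψ.hom).toAlgebra
  have : IsScalarTower A K Ω := IsScalarTower.of_algebraMap_eq fun a => rfl
  have hΩ : Function.Injective (algebraMap A Ω) := (algebraMap κ Ω).injective.comp hinj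
  let p := pullback.snd f u
  obtain ⟨a, ha, hc⟩ := exists_counts p Ω hΩ
  obtain ⟨V, hV, hψ'⟩ := hnear a ha
  refine ⟨V, hV, fun y hy => ?_⟩
  obtain ⟨ψy, hψya, hψye⟩ := hψ' y hy
  letI : Algebra A (SeparableClosure (Y.residueField y)) :=
    ((algebraMap (Y.residueField y) (SeparableClosure (Y.residueField y))).comp ψy.hom).toAlgebra
  have hy' := hc (SeparableClosure (Y.residueField y)) (fun h0 => hψya
    ((algebraMap (Y.residueField y) (SeparableClosure (Y.residueField y))).injective
      (h0.trans (map_zero _).symm)))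
  have e1 := counts_eq_of_iso (geomFiberIso f u ψy hψye)
  have e2 := counts_eq_of_iso (geomFiberIso f u ψ hψ)
  have e3 := counts_eq_of_sepClosed p K Ω
  exact ⟨(e1.1.symm.trans hy'.1).trans (e3.1.trans e2.1),
    (e1.2.symm.trans hy'.2).trans (e3.2.trans e2.2)⟩

end Groth.Agent.H46.GeomSpread
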