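import Mathlib.AlgebraicGeometry.PullbackCarrier
import Mathlib.AlgebraicGeometry.Morphisms.FiniteType
import Mathlib.AlgebraicGeometry.Morphisms.QuasiCompact
import Mathlib.AlgebraicGeometry.Morphisms.Preimmersion
import Mathlib.RingTheory.Spectrum.Prime.Topology

/-!
# Fibres of a scheme over an affine base at points with values in fields, and their affine charts
-/

set_option autoImplicit false
set_option linter.style.haveILetI false
noncomputable section

universe u

open CategoryTheory CategoryTheory.Limits AlgebraicGeometry TensorProduct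

namespace Groth.Agent.H46.GeomSpread

variable {A : CommRingCat.{u}}

/-- The morphism of spectra of an algebra over the base. -/
abbrev sp (A : CommRingCat.{u}) (L : Type u) [CommRing L] [Algebra A L] :
    Spec (CommRingCat.of L) ⟶ Spec A :=
  Spec.map (CommRingCat.ofHom (algebraMap A L))

variable {Z : Scheme.{u}} (p : Z ⟶ Spec A) (L : Type u) [CommRing L] [Algebra A L]

/-- The base change of `p` to `L`. -/
abbrev fib : Scheme.{u} := pullback p (sp A L)

/-- The projection of the base change. -/
abbrev fibπ : fib p L ⟶ Z := pullback.fst p (sp A L)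

/-- The map of base changes given by a morphism into `Z`. -/
def subMap {W : Scheme.{u}} (i : W ⟶ Z) : fib (i ≫ p) L ⟶ fib p L :=
  pullback.map (i ≫ p) (sp A L) p (sp A L) i (𝟙 _) (𝟙 _) (by simp) (by simp)

@[reassoc]
theorem subMap_fst {W : Scheme.{u}} (i : W ⟶ Z) :
    subMap p L i ≫ fibπ p L = fibπ (i ≫ p) L ≫ i := pullback.lift_fst _ _ _

theorem isPullback_subMap {W : Scheme.{u}} (i : W ⟶ Z) :
    IsPullback (subMap p L i) (fibπ (i ≫ p) L) (fibπ p L) i := by
  refine (IsPullback.of_bot (v₂₁ := pullback.snd p (sp A L)) (v₂₂ := p) ?_ (subMap_fst p L i).symm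
    (IsPullback.of_hasPullback p (sp A L))).flip
  rw [subMap, pullback.lift_snd, Category.comp_id]
  exact IsPullback.of_hasPullback (i ≫ p) (sp A L)

theorem isIrreducible_range_iff {F G : Type*} [TopologicalSpace F] [TopologicalSpace G] {f : F → G}
    (hf : Topology.IsInducing f) : IsIrreducible (Set.range f) ↔ IrreducibleSpace F := by
  rw [irreducibleSpace_def]
  refine ⟨fun h => ⟨?_, fun u v hu hv hu' hv' => ?_⟩, fun h => by
    rw [← Set.image_univ]; exact h.image f hf.continuous.continuousOn⟩
  · obtain ⟨_, x, rfl⟩ := h.1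
    exact ⟨x, trivial⟩
  · obtain ⟨u', hu₁, rfl⟩ := hf.isOpen_iff.1 hu
    obtain ⟨v', hv₁, rfl⟩ := hf.isOpen_iff.1 hv
    obtain ⟨a, -, ha⟩ := hu'
    obtain ⟨b, -, hb⟩ := hv'
    obtain ⟨_, ⟨x, rfl⟩, hx⟩ := h.2 u' v' hu₁ hv₁ ⟨f a, ⟨a, rfl⟩, ha⟩ ⟨f b, ⟨b, rfl⟩, hb⟩
    exact ⟨x, trivial, hx⟩

theorem range_subMap {W : Scheme.{u}} (i : W ⟶ Z) :
    Set.range (subMap p L i) = fibπ p L ⁻¹' Set.range i := by
  rw [subMap, Scheme.Pullback.range_map]
  simp

theorem isPreimmersion_subMap {W : Scheme.{u}} (i : W ⟶ Z) [IsPreimmersion i] :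
    IsPreimmersion (subMap p L i) :=
  MorphismProperty.of_isPullback (P := @IsPreimmersion) (isPullback_subMap p L i).flip inferInstance

theorem isOpenImmersion_subMap {W : Scheme.{u}} (i : W ⟶ Z) [IsOpenImmersion i] :
    IsOpenImmersion (subMap p L i) :=
  MorphismProperty.of_isPullback (P := @IsOpenImmersion) (isPullback_subMap p L i).flip inferInstance

theorem isIrreducible_preimage_iff {W : Scheme.{u}} (i : W ⟶ Z) [IsPreimmersion i] :
    IsIrreducible (fibπ p L ⁻¹' Set.range i) ↔ IrreducibleSpace ↑(fib (i ≫ p) L) := by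
  have := isPreimmersion_subMap p L i
  rw [← range_subMap]
  exact isIrreducible_range_iff (subMap p L i).isEmbedding.isInducing

theorem nonempty_preimage_iff {W : Scheme.{u}} (i : W ⟶ Z) :
    (fibπ p L ⁻¹' Set.range i).Nonempty ↔ Nonempty ↑(fib (i ≫ p) L) := by
  rw [← range_subMap]
  exact Set.range_nonempty_iff_nonempty

section Affine

variable {B : Type u} [CommRing B] [Algebra A B]

theorem isPullback_affine :
    IsPullback (Spec.map (CommRingCat.ofHom
        (Algebra.TensorProduct.includeRight : B →ₐ[A] L ⊗[A] B).toRingHom))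
      (Spec.map (CommRingCat.ofHom (S := L ⊗[A] B) Algebra.TensorProduct.includeLeftRingHom))
      (sp A B) (sp A L) :=
  (isPullback_SpecMap_of_isPushout _ _ _ _ (CommRingCat.isPushout_tensorProduct A L B)).flip

/-- The chart of the base change given by an affine chart of `Z`. -/
def chartMap (e : Spec (CommRingCat.of B) ⟶ Z) (he : e ≫ p = sp A B) :
    Spec (CommRingCat.of (L ⊗[A] B)) ⟶ fib p L :=
  pullback.lift
    (Spec.map (CommRingCat.ofHom
      (Algebra.TensorProduct.includeRight : B →ₐ[A] L ⊗[A] B).toRingHom) ≫ e)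
    (Spec.map (CommRingCat.ofHom (S := L ⊗[A] B) Algebra.TensorProduct.includeLeftRingHom))
    (by rw [Category.assoc, he]; exact (isPullback_affine L).w)

@[reassoc]
theorem chartMap_fst (e : Spec (CommRingCat.of B) ⟶ Z) (he : e ≫ p = sp A B) :
    chartMap p L e he ≫ fibπ p L = Spec.map (CommRingCat.ofHom
      (Algebra.TensorProduct.includeRight : B →ₐ[A] L ⊗[A] B).toRingHom) ≫ e :=
  pullback.lift_fst _ _ _

theorem isPullback_chartMap (e : Spec (CommRingCat.of B) ⟶ Z) (he : e ≫ p = sp A B) :
    IsPullback (chartMap p L e he) (Spec.map (CommRingCat.ofHom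
      (Algebra.TensorProduct.includeRight : B →ₐ[A] L ⊗[A] B).toRingHom)) (fibπ p L) e := by
  refine (IsPullback.of_bot ?_ (chartMap_fst p L e he).symm
    (IsPullback.of_hasPullback p (sp A L))).flip
  rw [he, chartMap, pullback.lift_snd]
  exact isPullback_affine L

theorem range_chartMap (e : Spec (CommRingCat.of B) ⟶ Z) (he : e ≫ p = sp A B) :
    Set.range (chartMap p L e he) = fibπ p L ⁻¹' Set.range e := by
  refine Set.Subset.antisymm ?_ ?_
  · rintro _ ⟨x, rfl⟩
    exact ⟨_, (congrArg (fun g => g x) (chartMap_fst p L e he)).symm⟩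
  · rintro y ⟨b, hb⟩
    obtain ⟨x, hx, -⟩ := Scheme.exists_preimage_of_isPullback (isPullback_chartMap p L e he) y b hb.symm
    exact ⟨x, hx⟩

theorem isOpenImmersion_chartMap (e : Spec (CommRingCat.of B) ⟶ Z) [IsOpenImmersion e]
    (he : e ≫ p = sp A B) : IsOpenImmersion (chartMap p L e he) :=
  MorphismProperty.of_isPullback (P := @IsOpenImmersion) (isPullback_chartMap p L e he).flip inferInstance

theorem isIrreducible_preimage_chart_iff (e : Spec (CommRingCat.of B) ⟶ Z) [IsOpenImmersion e]
    (he : e ≫ p = sp A B) :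
    IsIrreducible (fibπ p L ⁻¹' Set.range e) ↔ (nilradical (L ⊗[A] B)).IsPrime := by
  have := isOpenImmersion_chartMap p L e he
  rw [← range_chartMap p L e he, isIrreducible_range_iff (chartMap p L e he).isOpenEmbedding.isInducing]
  exact PrimeSpectrum.irreducibleSpace_iff_isPrime_nilradical

theorem nonempty_preimage_chart_iff (e : Spec (CommRingCat.of B) ⟶ Z) (he : e ≫ p = sp A B) :
    (fibπ p L ⁻¹' Set.range e).Nonempty ↔ Nontrivial (L ⊗[A] B) := by
  rw [← range_chartMap p L e he, Set.range_nonempty_iff_nonempty]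
  exact PrimeSpectrum.nonempty_iff_nontrivial

end Affine

/-- An affine open gives a chart. -/
theorem exists_chart [LocallyOfFiniteType p] {W : Z.Opens} (hW : IsAffineOpen W) :
    ∃ (B : Type u) (_ : CommRing B) (_ : Algebra A B) (e : Spec (CommRingCat.of B) ⟶ Z),
      Algebra.FiniteType A B ∧ IsOpenImmersion e ∧ Set.range e = W ∧ e ≫ p = sp A B := by
  let φ : A ⟶ Γ(Z, W) := Spec.preimage (hW.fromSpec ≫ p)
  refine ⟨Γ(Z, W), inferInstance, φ.hom.toAlgebra, hW.fromSpec, ?_, inferInstance, hW.range_fromSpec,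
    (Spec.map_preimage _).symm⟩
  show φ.hom.FiniteType
  rw [← HasRingHomProperty.Spec_iff (P := @LocallyOfFiniteType), Spec.map_preimage]
  infer_instance

/-- A finite cover by charts. -/
theorem exists_charts [QuasiCompact p] :
    ∃ (n : ℕ) (W : Fin n → Z.Opens), (∀ i, IsAffineOpen (W i)) ∧ ∀ z : Z, ∃ i, z ∈ W i := by
  have : CompactSpace Z := QuasiCompact.compactSpace_of_compactSpace p
  let 𝒰 := Z.affineCover.finiteSubcover
  obtain ⟨n, ⟨e⟩⟩ := Finite.exists_equiv_fin 𝒰.I₀
  refine ⟨n, fun i => (𝒰.f (e.symm i)).opensRange, fun i => isAffineOpen_opensRange _,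
    fun z => ⟨e (𝒰.idx z), ?_⟩⟩
  show z ∈ (𝒰.f (e.symm (e (𝒰.idx z)))).opensRange
  rw [e.symm_apply_apply]
  exact 𝒰.covers z

section Tower

variable (R : Type u) [CommRing R] [Algebra A R] [Algebra R L] [IsScalarTower A R L]

/-- The canonical map to the base change to an intermediate algebra. -/
def toBC : fib p L ⟶ fib p R :=
  pullback.lift (fibπ p L) (pullback.snd p (sp A L) ≫ Spec.map (CommRingCat.ofHom (algebraMap R L))) (by
    rw [Category.assoc, ← Spec.map_comp, ← CommRingCat.ofHom_comp, ← IsScalarTower.algebraMap_eq,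
      pullback.condition])

@[reassoc]
theorem toBC_fst : toBC p L R ≫ fibπ p R = fibπ p L := pullback.lift_fst _ _ _

theorem isPullback_toBC :
    IsPullback (toBC p L R) (pullback.snd p (sp A L)) (pullback.snd p (sp A R))
      (Spec.map (CommRingCat.ofHom (algebraMap R L))) := by
  refine IsPullback.of_right ?_ (pullback.lift_snd _ _ _) (IsPullback.of_hasPullback p (sp A R))
  rw [toBC, pullback.lift_fst, ← Spec.map_comp, ← CommRingCat.ofHom_comp, ← IsScalarTower.algebraMap_eq]
  exact IsPullback.of_hasPullback p (sp A L)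

/-- Base change in stages. -/
def bcIso : fib p L ≅ fib (A := CommRingCat.of R) (pullback.snd p (sp A R)) L :=
  (isPullback_toBC p L R).isoPullback

@[reassoc]
theorem bcIso_hom_fst :
    (bcIso p L R).hom ≫ fibπ (A := CommRingCat.of R) (pullback.snd p (sp A R)) L = toBC p L R :=
  (isPullback_toBC p L R).isoPullback_hom_fst

theorem toBC_surjective (F : Type u) [Field F] [Algebra A F] (K : Type u) [Field K] [Algebra A K]
    [Algebra F K] [IsScalarTower A F K] : Function.Surjective (toBC p K F) := by
  have : Surjective (Spec.map (CommRingCat.ofHom (algebraMap F K))) :=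
    ⟨fun x => ⟨(default : PrimeSpectrum K), @Subsingleton.elim (PrimeSpectrum F) _ _ _⟩⟩
  exact (MorphismProperty.of_isPullback (isPullback_toBC p K F).flip ‹Surjective _› :
    Surjective (toBC p K F)).surj

end Tower

end Groth.Agent.H46.GeomSpread
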