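import Mathlib.FieldTheory.SeparablyGenerated
import Mathlib.FieldTheory.PrimitiveElement
import Mathlib.FieldTheory.Minpoly.IsIntegrallyClosed
import Mathlib.FieldTheory.IntermediateField.Adjoin.Basic
import Mathlib.FieldTheory.IsAlgClosed.Basic
import Mathlib.RingTheory.Algebraic.Integral
import Mathlib.RingTheory.Polynomial.UniqueFactorization
import Mathlib.RingTheory.MvPolynomial.Basic
import Mathlib.RingTheory.Polynomial.RationalRoot

/-!
# Birational generating systems and hypersurface models of function fields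
-/

set_option autoImplicit false
set_option linter.style.haveILetI false
noncomputable section

universe u

namespace Groth.Agent.H46.GeomSpread

section Ratio

variable {R : Type*} [CommRing R] {L : Type*} [Field L] [Algebra R L]

theorem exists_pow_mul_mem {S : Set L} {y : L} (hy0 : y ≠ 0) (hy : y ∈ Algebra.adjoin R S) {x : L}
    (hx : x ∈ Algebra.adjoin R (S ∪ {y⁻¹})) : ∃ M : ℕ, x * y ^ M ∈ Algebra.adjoin R S := by
  induction hx using Algebra.adjoin_induction with
  | mem x h =>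
    rcases h with h | h
    · exact ⟨0, by simpa using Algebra.subset_adjoin h⟩
    · rw [Set.mem_singleton_iff.1 h]
      exact ⟨1, by simp [hy0, one_mem]⟩
  | algebraMap r => exact ⟨0, by simp [Subalgebra.algebraMap_mem]⟩
  | add a b _ _ ha hb =>
    obtain ⟨M, hM⟩ := ha
    obtain ⟨M', hM'⟩ := hb
    refine ⟨M + M', ?_⟩
    rw [show (a + b) * y ^ (M + M') = a * y ^ M * y ^ M' + b * y ^ M' * y ^ M by ring]
    exact add_mem (mul_mem hM (pow_mem hy _)) (mul_mem hM' (pow_mem hy _))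
  | mul a b _ _ ha hb =>
    obtain ⟨M, hM⟩ := ha
    obtain ⟨M', hM'⟩ := hb
    refine ⟨M + M', ?_⟩
    rw [show a * b * y ^ (M + M') = a * y ^ M * (b * y ^ M') by ring]
    exact mul_mem hM hM'

theorem exists_denominator {S T : Set L} (hT : T.Finite)
    (h : ∀ t ∈ T, ∃ p ∈ Algebra.adjoin R S, ∃ q ∈ Algebra.adjoin R S, q ≠ 0 ∧ t = p / q) :
    ∃ G ∈ Algebra.adjoin R S, G ≠ 0 ∧ T ⊆ ↑(Algebra.adjoin R (S ∪ {G⁻¹})) := by
  induction T, hT using Set.Finite.induction_on with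
  | empty => exact ⟨1, one_mem _, one_ne_zero, Set.empty_subset _⟩
  | @insert t T' _ _ ih =>
    obtain ⟨G, hG, hG0, hsub⟩ := ih fun t' ht' => h t' (Set.mem_insert_of_mem _ ht')
    obtain ⟨p, hp, q, hq, hq0, rfl⟩ := h t (Set.mem_insert _ _)
    have hmono : Algebra.adjoin R S ≤ Algebra.adjoin R (S ∪ {(G * q)⁻¹}) :=
      Algebra.adjoin_mono Set.subset_union_left
    have hinv : (G * q)⁻¹ ∈ Algebra.adjoin R (S ∪ {(G * q)⁻¹}) :=
      Algebra.subset_adjoin (Or.inr rfl)
    refine ⟨G * q, mul_mem hG hq, mul_ne_zero hG0 hq0, Set.insert_subset ?_ ?_⟩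
    · rw [show p / q = p * G * (G * q)⁻¹ by field_simp]
      exact mul_mem (mul_mem (hmono hp) (hmono hG)) hinv
    · refine hsub.trans (SetLike.coe_subset_coe.2 (Algebra.adjoin_le ?_))
      rintro x (hx | hx)
      · exact hmono (Algebra.subset_adjoin hx)
      · rw [Set.mem_singleton_iff.1 hx, show G⁻¹ = q * (G * q)⁻¹ by field_simp]
        exact mul_mem (hmono hq) hinv

theorem exists_eq_union {S T : Set L} {G₀ Q₀ : L} (hG : G₀ ∈ Algebra.adjoin R S) (hG0 : G₀ ≠ 0)
    (hT : T ⊆ ↑(Algebra.adjoin R (S ∪ {G₀⁻¹}))) (hQ : Q₀ ∈ Algebra.adjoin R T) (hQ0 : Q₀ ≠ 0) :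
    ∃ G ∈ Algebra.adjoin R S, G ≠ 0 ∧
      Algebra.adjoin R (S ∪ {G⁻¹}) = Algebra.adjoin R ((S ∪ T) ∪ {G₀⁻¹, Q₀⁻¹}) := by
  obtain ⟨M, hM⟩ := exists_pow_mul_mem hG0 hG (Algebra.adjoin_le hT hQ)
  have he0 : Q₀ * G₀ ^ M ≠ 0 := mul_ne_zero hQ0 (pow_ne_zero _ hG0)
  refine ⟨G₀ * (Q₀ * G₀ ^ M), mul_mem hG hM, mul_ne_zero hG0 he0, le_antisymm ?_ ?_⟩
  · refine Algebra.adjoin_le ?_
    rintro x (hx | hx)
    · exact Algebra.subset_adjoin (Or.inl (Or.inl hx))
    · rw [Set.mem_singleton_iff.1 hx,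
        show (G₀ * (Q₀ * G₀ ^ M))⁻¹ = G₀⁻¹ * Q₀⁻¹ * G₀⁻¹ ^ M by
          rw [mul_inv, mul_inv, inv_pow]; ring]
      have h1 : G₀⁻¹ ∈ Algebra.adjoin R ((S ∪ T) ∪ {G₀⁻¹, Q₀⁻¹}) :=
        Algebra.subset_adjoin (Or.inr (Or.inl rfl))
      exact mul_mem (mul_mem h1 (Algebra.subset_adjoin (Or.inr (Or.inr rfl)))) (pow_mem h1 _)
  · let U := Algebra.adjoin R (S ∪ {(G₀ * (Q₀ * G₀ ^ M))⁻¹})
    have hS : Algebra.adjoin R S ≤ U := Algebra.adjoin_mono Set.subset_union_left
    have hinv : (G₀ * (Q₀ * G₀ ^ M))⁻¹ ∈ U := Algebra.subset_adjoin (Or.inr rfl)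
    have hG' : G₀⁻¹ ∈ U := by
      rw [show G₀⁻¹ = Q₀ * G₀ ^ M * (G₀ * (Q₀ * G₀ ^ M))⁻¹ by field_simp]
      exact mul_mem (hS hM) hinv
    have hT' : T ⊆ ↑U := hT.trans (SetLike.coe_subset_coe.2 (Algebra.adjoin_le
      (Set.union_subset (Algebra.subset_adjoin.trans (SetLike.coe_subset_coe.2 hS))
        (Set.singleton_subset_iff.2 hG'))))
    have hQ' : Q₀⁻¹ ∈ U := by
      rw [show Q₀⁻¹ = G₀ ^ M * (G₀ * (G₀ * (Q₀ * G₀ ^ M))⁻¹) by field_simp]
      exact mul_mem (pow_mem (hS hG) _) (mul_mem (hS hG) hinv)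
    refine Algebra.adjoin_le ?_
    rintro x ((hx | hx) | rfl | rfl)
    · exact hS (Algebra.subset_adjoin hx)
    · exact hT' hx
    · exact hG'
    · exact hQ'

/-- Two finite systems of generators, each rational in the other, agree after a localisation. -/
theorem exists_adjoin_eq {S T : Set L} (hSf : S.Finite) (hTf : T.Finite)
    (hT : ∀ t ∈ T, ∃ p ∈ Algebra.adjoin R S, ∃ q ∈ Algebra.adjoin R S, q ≠ 0 ∧ t = p / q)
    (hS : ∀ t ∈ S, ∃ p ∈ Algebra.adjoin R T, ∃ q ∈ Algebra.adjoin R T, q ≠ 0 ∧ t = p / q) :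
    ∃ G ∈ Algebra.adjoin R S, ∃ H ∈ Algebra.adjoin R T, G ≠ 0 ∧ H ≠ 0 ∧
      Algebra.adjoin R (S ∪ {G⁻¹}) = Algebra.adjoin R (T ∪ {H⁻¹}) := by
  obtain ⟨G₀, hG, hG0, hGT⟩ := exists_denominator hTf hT
  obtain ⟨Q₀, hQ, hQ0, hQS⟩ := exists_denominator hSf hS
  obtain ⟨G, h1, h2, h3⟩ := exists_eq_union hG hG0 hGT hQ hQ0
  obtain ⟨H, h4, h5, h6⟩ := exists_eq_union hQ hQ0 hQS hG hG0
  refine ⟨G, h1, H, h4, h2, h5, ?_⟩
  rw [h3, h6, Set.union_comm S T, Set.pair_comm]

end Ratio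

open MvPolynomial

theorem aeval_cons {Ω L : Type u} [CommRing Ω] [CommRing L] [Algebra Ω L] {d : ℕ} (v : Fin d → L)
    (θ : L) (p : MvPolynomial (Fin (d + 1)) Ω) :
    aeval (Fin.cons θ v : Fin (d + 1) → L) p =
      ((finSuccEquiv Ω d p).map (aeval v).toRingHom).eval θ := by
  let ψ : MvPolynomial (Fin (d + 1)) Ω →ₐ[Ω] L :=
    AlgHom.mk' ((Polynomial.evalRingHom θ).comp
      ((Polynomial.mapRingHom (aeval v : MvPolynomial (Fin d) Ω →ₐ[Ω] L).toRingHom).comp
        (finSuccEquiv Ω d).toRingEquiv.toRingHom)) fun c q => by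
      simp [Algebra.smul_def, finSuccEquiv_apply]
  refine DFunLike.congr_fun (algHom_ext (f := aeval (Fin.cons θ v : Fin (d + 1) → L)) (g := ψ)
    fun i => ?_) p
  refine Fin.cases ?_ (fun j => ?_) i
  · simp [ψ, finSuccEquiv_X_zero]
  · simp [ψ, finSuccEquiv_X_succ]

/-- A finitely generated extension of an algebraically closed field is the function field of a
hypersurface. -/
theorem exists_hypersurface {Ω L : Type u} [Field Ω] [IsAlgClosed Ω] [Field L] [Algebra Ω L]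
    {m : ℕ} (c : Fin m → L) (hc : IntermediateField.adjoin Ω (Set.range c) = ⊤) :
    ∃ (N : ℕ) (x : Fin N → L) (F : MvPolynomial (Fin N) Ω), Irreducible F ∧
      (∀ p, aeval x p = 0 ↔ F ∣ p) ∧ IntermediateField.adjoin Ω (Set.range x) = ⊤ := by
  classical
  have : Algebra.EssFiniteType Ω L := by
    have hfg : (⊤ : IntermediateField Ω L).FG := by
      rw [← hc]
      exact IntermediateField.fg_adjoin_of_finite (Set.finite_range c)
    exact IntermediateField.fg_top_iff.1 hfg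
  obtain ⟨s, hs, hsep⟩ := exists_isTranscendenceBasis_and_isSeparable_of_perfectField (k := Ω) (K := L)
  let Ks := IntermediateField.adjoin Ω (s : Set L)
  have : Algebra.EssFiniteType Ks L := Algebra.EssFiniteType.of_comp Ω Ks L
  have : FiniteDimensional Ks L := Algebra.finite_of_essFiniteType_of_isAlgebraic
  obtain ⟨θ₀, hθ₀⟩ := Field.exists_primitive_element Ks L
  let d := s.card
  let e : Fin d ≃ s := (Finset.equivFin s).symm
  let v : Fin d → L := fun i => e i
  have hv : IsTranscendenceBasis Ω v := hs.comp_equiv e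
  have hrange : Set.range v = (s : Set L) := by
    ext l
    exact ⟨fun ⟨i, hi⟩ => hi ▸ (e i).2, fun hl => ⟨e.symm ⟨l, hl⟩, by simp [v]⟩⟩
  let P := MvPolynomial (Fin d) Ω
  letI : Algebra P L := (aeval v : P →ₐ[Ω] L).toRingHom.toAlgebra
  have hinj : Function.Injective (algebraMap P L) := hv.1
  have : Module.IsTorsionFree P L := Module.isTorsionFree_iff_algebraMap_injective.2 hinj
  have halg : IsAlgebraic P θ₀ := by
    have : Algebra.IsAlgebraic (Algebra.adjoin Ω (Set.range v)) L := hv.isAlgebraic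
    obtain ⟨p, hp0, hp⟩ := this.isAlgebraic θ₀
    let π : P →+* Algebra.adjoin Ω (Set.range v) := (aeval v : P →ₐ[Ω] L).toRingHom.codRestrict
      (Algebra.adjoin Ω (Set.range v)) fun q => by
        rw [Algebra.adjoin_range_eq_range_aeval]
        exact ⟨q, rfl⟩
    have hπ : Function.Surjective π := by
      rintro ⟨l, hl⟩
      rw [Algebra.adjoin_range_eq_range_aeval] at hl
      obtain ⟨q, rfl⟩ := hl
      exact ⟨q, rfl⟩
    obtain ⟨p', rfl⟩ := Polynomial.map_surjective π hπ p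
    refine ⟨p', fun h => hp0 (by simp [h]), ?_⟩
    rw [Polynomial.aeval_def] at hp ⊢
    rw [Polynomial.eval₂_map] at hp
    exact hp
  obtain ⟨q, hq, hint⟩ := halg.exists_integral_multiple
  let θ : L := q • θ₀
  let F := (finSuccEquiv Ω d).symm (minpoly P θ)
  refine ⟨d + 1, Fin.cons θ v, F, ?_, ?_, ?_⟩
  · exact (MulEquiv.irreducible_iff (finSuccEquiv Ω d).symm.toMulEquiv).2 (minpoly.irreducible hint)
  · intro p
    rw [aeval_cons, ← Polynomial.eval₂_eq_eval_map]
    change Polynomial.aeval θ (finSuccEquiv Ω d p) = 0 ↔ _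
    rw [minpoly.isIntegrallyClosed_dvd_iff hint]
    conv_rhs => rw [← map_dvd_iff (finSuccEquiv Ω d), AlgEquiv.apply_symm_apply]
  · rw [eq_top_iff]
    let W := IntermediateField.adjoin Ω (Set.range (Fin.cons θ v : Fin (d + 1) → L))
    have hθ : θ ∈ W := IntermediateField.subset_adjoin _ _ ⟨0, rfl⟩
    have hKs : Ks ≤ W := IntermediateField.adjoin_le_iff.2 fun l hl => by
      rw [← hrange] at hl
      obtain ⟨i, rfl⟩ := hl
      exact IntermediateField.subset_adjoin _ _ ⟨i.succ, rfl⟩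
    have hqW : (aeval v q : L) ∈ W := by
      refine hKs (IntermediateField.algebra_adjoin_le_adjoin Ω _ ?_)
      rw [← hrange, Algebra.adjoin_range_eq_range_aeval]
      exact ⟨q, rfl⟩
    have hθ₀' : θ₀ ∈ W := by
      rw [show θ₀ = θ / aeval v q by
        show θ₀ = q • θ₀ / _
        rw [Algebra.smul_def]
        refine (mul_div_cancel_left₀ θ₀ fun h => hq (hinj ?_)).symm
        rw [map_zero]
        exact h]
      exact div_mem hθ hqW
    have h1 : (IntermediateField.adjoin Ks {θ₀}).restrictScalars Ω ≤ W := by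
      rw [IntermediateField.restrictScalars_adjoin, IntermediateField.adjoin_le_iff]
      exact Set.union_subset (fun l hl => hKs hl) (Set.singleton_subset_iff.2 hθ₀')
    intro l _
    exact h1 (by
      show l ∈ IntermediateField.adjoin Ks {θ₀}
      rw [hθ₀]
      exact IntermediateField.mem_top)

end Groth.Agent.H46.GeomSpread
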