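import Mathlib.Topology.Connected.Clopen
import Mathlib.Topology.Irreducible
import Mathlib.Topology.Homeomorph.Lemmas
import Mathlib.Data.Set.Card
import Mathlib.Data.Fintype.Card

/-!
# Spaces covered by finitely many closed irreducible or connected pieces
-/

set_option autoImplicit false

open Set

namespace Groth.Agent.H46.GeomSpread

variable {F F' : Type*} [TopologicalSpace F] [TopologicalSpace F'] {ι : Type*}

theorem isIrreducible_univ_of_cover {U : ι → Set F} (hne : Nonempty F) (hU : ∀ i, IsOpen (U i))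
    (hirr : ∀ i, (U i).Nonempty → IsIrreducible (U i)) (hcov : ∀ x, ∃ i, x ∈ U i)
    (hmeet : ∀ i j, (U i).Nonempty → (U j).Nonempty → (U i ∩ U j).Nonempty) :
    IrreducibleSpace F := by
  refine (irreducibleSpace_def F).2 ⟨univ_nonempty, fun V W hV hW hVne hWne => ?_⟩
  obtain ⟨v, -, hv⟩ := hVne
  obtain ⟨w, -, hw⟩ := hWne
  obtain ⟨i, hi⟩ := hcov v
  obtain ⟨j, hj⟩ := hcov w
  obtain ⟨z, hzi, hzV, hzj⟩ := (hirr i ⟨v, hi⟩).2 V (U j) hV (hU j) ⟨v, hi, hv⟩
    (hmeet i j ⟨v, hi⟩ ⟨w, hj⟩)
  obtain ⟨t, -, htV, htW⟩ := (hirr j ⟨w, hj⟩).2 V W hV hW ⟨z, hzj, hzV⟩ ⟨w, hj, hw⟩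
  exact ⟨t, trivial, htV, htW⟩

/-- An irredundant finite cover by closed irreducible sets consists of the irreducible components. -/
theorem irreducibleComponents_eq_range [Finite ι] {T : ι → Set F} (hc : ∀ i, IsClosed (T i))
    (hirr : ∀ i, IsIrreducible (T i)) (hcov : ∀ x, ∃ i, x ∈ T i)
    (hnle : ∀ i j, T i ⊆ T j → i = j) :
    irreducibleComponents F = Set.range T := by
  classical
  cases nonempty_fintype ι
  have hsub : ∀ s : Set F, IsIrreducible s → ∃ i, s ⊆ T i := fun s hs => by
    obtain ⟨t, ht, hst⟩ := isIrreducible_iff_sUnion_isClosed.1 hs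
      (Finset.univ.image T) (fun t ht => by
        obtain ⟨i, -, rfl⟩ := Finset.mem_image.1 ht
        exact hc i) fun x _ => by
        obtain ⟨i, hi⟩ := hcov x
        exact Set.mem_sUnion.2 ⟨T i, by simp, hi⟩
    obtain ⟨i, -, rfl⟩ := Finset.mem_image.1 ht
    exact ⟨i, hst⟩
  have hmax : ∀ i, T i ∈ irreducibleComponents F := fun i => ⟨hirr i, fun s hs hle => by
    obtain ⟨j, hj⟩ := hsub s hs
    obtain rfl := hnle i j (hle.trans hj)
    exact hj⟩
  refine subset_antisymm (fun C hC => ?_) (Set.range_subset_iff.2 hmax)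
  obtain ⟨i, hi⟩ := hsub C hC.1
  exact ⟨i, (hC.eq_of_ge (hirr i) hi).symm ▸ rfl⟩

theorem encard_irreducibleComponents [Finite ι] {T : ι → Set F} (hc : ∀ i, IsClosed (T i))
    (hirr : ∀ i, IsIrreducible (T i)) (hcov : ∀ x, ∃ i, x ∈ T i)
    (hnle : ∀ i j, T i ⊆ T j → i = j) :
    (irreducibleComponents F).encard = ENat.card ι := by
  rw [irreducibleComponents_eq_range hc hirr hcov hnle, ← Set.image_univ,
    Function.Injective.encard_image (fun i j h => hnle i j h.le) _, Set.encard_univ]

/-- Connected components from a finite cover by closed connected pieces. -/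
theorem nonempty_equiv_connectedComponents [Finite ι] {T : ι → Set F} (hc : ∀ i, IsClosed (T i))
    (hconn : ∀ i, _root_.IsConnected (T i)) (hcov : ∀ x, ∃ i, x ∈ T i) :
    Nonempty (_root_.ConnectedComponents F ≃ Quot fun i j => (T i ∩ T j).Nonempty) := by
  let R : ι → ι → Prop := fun i j => (T i ∩ T j).Nonempty
  let φ : Quot R → _root_.ConnectedComponents F :=
    Quot.lift (fun i => ConnectedComponents.mk (hconn i).nonempty.some) fun i j hij => by
      obtain ⟨z, hzi, hzj⟩ := hij
      refine ((ConnectedComponents.coe_eq_coe' (x := z)).2 ?_).symm.trans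
        ((ConnectedComponents.coe_eq_coe' (x := z)).2 ?_)
      · exact (hconn i).isPreconnected.subset_connectedComponent (hconn i).nonempty.some_mem hzi
      · exact (hconn j).isPreconnected.subset_connectedComponent (hconn j).nonempty.some_mem hzj
  refine ⟨(Equiv.ofBijective φ ⟨?_, ?_⟩).symm⟩
  · rintro a b hab
    induction a using Quot.induction_on with | h i => ?_
    induction b using Quot.induction_on with | h j => ?_
    let U : Set F := ⋃ k ∈ {k : ι | Quot.mk R k = Quot.mk R i}, T k
    have hU : IsClosed U := (Set.toFinite _).isClosed_biUnion fun k _ => hc k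
    have hUo : IsOpen U := by
      have : U = (⋃ k ∈ {k : ι | Quot.mk R k ≠ Quot.mk R i}, T k)ᶜ := by
        ext z
        simp only [U, Set.mem_iUnion, Set.mem_compl_iff, Set.mem_setOf_eq, exists_prop, not_exists, not_and]
        refine ⟨fun ⟨k, hk, hzk⟩ l hl hzl => hl ((Quot.sound ⟨z, hzl, hzk⟩).trans hk), fun h => ?_⟩
        obtain ⟨k, hk⟩ := hcov z
        exact ⟨k, by_contra fun hne => h k hne hk, hk⟩
      rw [this]
      exact ((Set.toFinite _).isClosed_biUnion fun k _ => hc k).isOpen_compl
    have hi : (hconn i).nonempty.some ∈ U :=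
      Set.mem_iUnion₂.2 ⟨i, rfl, (hconn i).nonempty.some_mem⟩
    have hj : (hconn j).nonempty.some ∈ U :=
      (IsClopen.connectedComponent_subset ⟨hU, hUo⟩ hi) (by
        have := (ConnectedComponents.coe_eq_coe' (x := (hconn j).nonempty.some)).1
          (show ConnectedComponents.mk (hconn j).nonempty.some =
            ConnectedComponents.mk (hconn i).nonempty.some from hab.symm)
        exact this)
    obtain ⟨k, hk, hzk⟩ := Set.mem_iUnion₂.1 hj
    exact ((Quot.sound ⟨_, (hconn j).nonempty.some_mem, hzk⟩).trans hk).symm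
  · intro c
    obtain ⟨z, rfl⟩ := ConnectedComponents.surjective_coe c
    obtain ⟨k, hk⟩ := hcov z
    exact ⟨Quot.mk R k, ConnectedComponents.coe_eq_coe'.2
      ((hconn k).isPreconnected.subset_connectedComponent hk (hconn k).nonempty.some_mem)⟩

theorem card_connectedComponents_eq [Finite ι] {T : ι → Set F} {T' : ι → Set F'}
    (hc : ∀ i, IsClosed (T i)) (hconn : ∀ i, _root_.IsConnected (T i)) (hcov : ∀ x, ∃ i, x ∈ T i)
    (hc' : ∀ i, IsClosed (T' i)) (hconn' : ∀ i, _root_.IsConnected (T' i))
    (hcov' : ∀ x, ∃ i, x ∈ T' i)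
    (hR : ∀ i j, (T i ∩ T j).Nonempty ↔ (T' i ∩ T' j).Nonempty) :
    ENat.card (_root_.ConnectedComponents F) = ENat.card (_root_.ConnectedComponents F') := by
  obtain ⟨e⟩ := nonempty_equiv_connectedComponents hc hconn hcov
  obtain ⟨e'⟩ := nonempty_equiv_connectedComponents hc' hconn' hcov'
  exact ENat.card_congr ((e.trans (Quot.congr (Equiv.refl ι) hR)).trans e'.symm)

/-- A continuous open surjection with connected fibres preserves the number of connected
components. -/
theorem card_connectedComponents_of_fibres {g : F → F'} (hg : Continuous g)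
    (hfib : ∀ z, _root_.IsPreconnected (g ⁻¹' connectedComponent z)) (hs : Function.Surjective g) :
    ENat.card (_root_.ConnectedComponents F) = ENat.card (_root_.ConnectedComponents F') := by
  refine ENat.card_congr (Equiv.ofBijective hg.connectedComponentsMap ⟨?_, ?_⟩)
  · rintro a b hab
    obtain ⟨x, rfl⟩ := ConnectedComponents.surjective_coe a
    obtain ⟨y, rfl⟩ := ConnectedComponents.surjective_coe b
    have h : g y ∈ connectedComponent (g x) :=
      (ConnectedComponents.coe_eq_coe' (x := g y)).1 hab.symm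
    exact ((ConnectedComponents.coe_eq_coe' (x := y)).2
      ((hfib (g x)).subset_connectedComponent
        (show x ∈ g ⁻¹' connectedComponent (g x) from mem_connectedComponent) h)).symm
  · intro c
    obtain ⟨z, rfl⟩ := ConnectedComponents.surjective_coe c
    obtain ⟨x, rfl⟩ := hs z
    exact ⟨ConnectedComponents.mk x, rfl⟩

end Groth.Agent.H46.GeomSpread
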