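import Groth.Agent.H46.GeomSpread.Affine
import Groth.Agent.H46.GeomSpread.Fib
import Groth.Agent.H46.GeomSpread.Topo
import Mathlib.AlgebraicGeometry.IdealSheaf.Subscheme
import Mathlib.AlgebraicGeometry.Noetherian

/-!
# The component pattern of geometric fibres near the generic point
-/

set_option autoImplicit false
set_option linter.style.haveILetI false
noncomputable section

universe u

open CategoryTheory CategoryTheory.Limits AlgebraicGeometry TensorProduct TopologicalSpace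

namespace Groth.Agent.H46.GeomSpread

open Groth.Agent.H56.NearGeneric

variable {A : CommRingCat.{u}} [IsDomain A] {Z : Scheme.{u}} (p : Z ⟶ Spec A)
variable (Ω : Type u) [Field Ω] [Algebra A Ω]

theorem nonempty_fib [LocallyOfFiniteType p] (hΩ : Function.Injective (algebraMap A Ω))
    (h : Nonempty ↑(fib p Ω)) :
    ∃ a : A, a ≠ 0 ∧ ∀ (L : Type u) [Field L] [Algebra A L], algebraMap A L a ≠ 0 →
      Nonempty ↑(fib p L) := by
  obtain ⟨x⟩ := h
  obtain ⟨W, hW, hxW, -⟩ := exists_isAffineOpen_mem_and_subset (U := ⊤) (x := fibπ p Ω x) trivial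
  obtain ⟨B, _, _, e, hB, he₁, hr, he⟩ := exists_chart p hW
  have : Nontrivial (Ω ⊗[A] B) :=
    (nonempty_preimage_chart_iff p Ω e he).1 ⟨x, show fibπ p Ω x ∈ Set.range e by rw [hr]; exact hxW⟩
  obtain ⟨a, ha, hL⟩ := exists_nontrivial (B := B) Ω B hΩ
  refine ⟨a, ha, fun L _ _ hLa => ?_⟩
  obtain ⟨y, -⟩ := (nonempty_preimage_chart_iff p L e he).2 (hL L hLa)
  exact ⟨y⟩

theorem isEmpty_fib [LocallyOfFiniteType p] [QuasiCompact p] (hΩ : Function.Injective (algebraMap A Ω))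
    (h : IsEmpty ↑(fib p Ω)) :
    ∃ a : A, a ≠ 0 ∧ ∀ (L : Type u) [Field L] [Algebra A L], algebraMap A L a ≠ 0 →
      IsEmpty ↑(fib p L) := by
  classical
  obtain ⟨n, W, hW, hcov⟩ := exists_charts p
  choose B _ _ e hB he₁ hr he using fun i => exists_chart p (hW i)
  have hz : ∀ i, ∃ a : A, a ≠ 0 ∧ ∀ (L : Type u) [Field L] [Algebra A L], algebraMap A L a ≠ 0 →
      ¬ Nontrivial (L ⊗[A] B i) := fun i => by
    obtain ⟨a, ha, hk⟩ := exists_killed (B := B i) Ω (B i) hΩ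
    have h0 : ¬ Nontrivial (Ω ⊗[A] B i) := fun hn =>
      h.false ((nonempty_preimage_chart_iff p Ω (e i) (he i)).2 hn).some
    rw [not_nontrivial_iff_subsingleton] at h0
    refine ⟨a, ha, fun L _ _ hLa hn => ?_⟩
    have h1 := hk L hLa (1 : B i) (Subsingleton.elim _ _)
    exact one_ne_zero (α := L ⊗[A] B i) ((Algebra.TensorProduct.one_def).trans h1)
  choose a ha hL using hz
  refine ⟨∏ i, a i, Finset.prod_ne_zero_iff.2 fun i _ => ha i, fun L _ _ hLa => ⟨fun x => ?_⟩⟩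
  rw [map_prod, Finset.prod_ne_zero_iff] at hLa
  obtain ⟨i, hi⟩ := hcov (fibπ p L x)
  exact hL i L (hLa i (Finset.mem_univ i))
    ((nonempty_preimage_chart_iff p L (e i) (he i)).1 ⟨x, show fibπ p L x ∈ Set.range (e i) by
      rw [hr]; exact hi⟩)

theorem preimage_eq_univ [LocallyOfFiniteType p] [QuasiCompact p]
    (hΩ : Function.Injective (algebraMap A Ω)) (T : Set Z) (hT : IsClosed T)
    (h : fibπ p Ω ⁻¹' T = Set.univ) :
    ∃ a : A, a ≠ 0 ∧ ∀ (L : Type u) [Field L] [Algebra A L], algebraMap A L a ≠ 0 →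
      fibπ p L ⁻¹' T = Set.univ := by
  classical
  obtain ⟨n, W, hW, hcov⟩ := exists_charts p
  choose B _ _ e hB he₁ hr he using fun i => exists_chart p (hW i)
  have hz : ∀ i, ∃ a : A, a ≠ 0 ∧ ∀ (L : Type u) [Field L] [Algebra A L], algebraMap A L a ≠ 0 →
      ∀ b : PrimeSpectrum (L ⊗[A] B i), e i (b.comap
        (Algebra.TensorProduct.includeRight : B i →ₐ[A] L ⊗[A] B i).toRingHom) ∈ T := fun i => by
    obtain ⟨a, ha, hk⟩ := exists_killed (B := B i) Ω (B i) hΩ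
    obtain ⟨J, hJ⟩ := (PrimeSpectrum.isClosed_iff_zeroLocus_ideal _).1 (hT.preimage (e i).continuous)
    have hnil : ∀ g ∈ J, IsNilpotent ((1 : Ω) ⊗ₜ[A] g) := fun g hg => by
      rw [nilpotent_iff_mem_prime]
      intro P hP
      let c := chartMap p Ω (e i) (he i) ⟨P, hP⟩
      have hc : fibπ p Ω c ∈ T := (Set.ext_iff.1 h c).2 trivial
      have h2 : (⟨P, hP⟩ : PrimeSpectrum _).comap
          (Algebra.TensorProduct.includeRight : B i →ₐ[A] Ω ⊗[A] B i).toRingHom ∈ e i ⁻¹' T := by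
        have h3 := congrArg (fun g : Spec (CommRingCat.of (Ω ⊗[A] B i)) ⟶ Z => g ⟨P, hP⟩)
          (chartMap_fst p Ω (e i) (he i))
        show e i _ ∈ T
        exact (congrArg (· ∈ T) h3).mp hc
      rw [hJ] at h2
      exact h2 hg
    refine ⟨a, ha, fun L _ _ hLa b => ?_⟩
    show b.comap _ ∈ e i ⁻¹' T
    rw [hJ]
    intro g hg
    obtain ⟨m, hm⟩ := hnil g hg
    show (1 : L) ⊗ₜ[A] g ∈ b.asIdeal
    refine b.isPrime.mem_of_pow_mem m ?_
    rw [Algebra.TensorProduct.tmul_pow, one_pow] at hm ⊢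
    rw [hk L hLa _ hm]
    exact zero_mem _
  choose a ha hL using hz
  refine ⟨∏ i, a i, Finset.prod_ne_zero_iff.2 fun i _ => ha i,
    fun L _ _ hLa => Set.eq_univ_of_forall fun x => ?_⟩
  rw [map_prod, Finset.prod_ne_zero_iff] at hLa
  obtain ⟨i, hi⟩ := hcov (fibπ p L x)
  obtain ⟨b, rfl⟩ : x ∈ Set.range (chartMap p L (e i) (he i)) := by
    rw [range_chartMap]
    show fibπ p L x ∈ Set.range (e i)
    rw [hr]
    exact hi
  have h3 := congrArg (fun g : Spec (CommRingCat.of (L ⊗[A] B i)) ⟶ Z => g b)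
    (chartMap_fst p L (e i) (he i))
  exact (congrArg (· ∈ T) h3).mpr (hL i L (hLa i (Finset.mem_univ i)) b)

variable [IsAlgClosed Ω]

theorem irreducibleSpace_fib [LocallyOfFiniteType p] [QuasiCompact p]
    (hΩ : Function.Injective (algebraMap A Ω)) (h : IrreducibleSpace ↑(fib p Ω)) :
    ∃ a : A, a ≠ 0 ∧ ∀ (L : Type u) [Field L] [Algebra A L], algebraMap A L a ≠ 0 →
      IrreducibleSpace ↑(fib p L) := by
  classical
  obtain ⟨n, W, hW, hcov⟩ := exists_charts p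
  choose B _ _ e hB he₁ hr he using fun i => exists_chart p (hW i)
  have hne : Nonempty ↑(fib p Ω) := h.2
  obtain ⟨a₀, ha₀, hne₀⟩ := nonempty_fib p Ω hΩ hne
  -- each chart
  have hchart : ∀ i, ∃ a : A, a ≠ 0 ∧ ∀ (L : Type u) [Field L] [Algebra A L], algebraMap A L a ≠ 0 →
      ((fibπ p L ⁻¹' (W i : Set Z)).Nonempty → IsIrreducible (fibπ p L ⁻¹' (W i : Set Z)) ∧
        (fibπ p Ω ⁻¹' (W i : Set Z)).Nonempty) := fun i => by
    by_cases hi : (fibπ p Ω ⁻¹' (W i : Set Z)).Nonempty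
    · have hirr : IsIrreducible (fibπ p Ω ⁻¹' (W i : Set Z)) :=
        ⟨hi, (IrreducibleSpace.isIrreducible_univ _).2.open_subset
          ((W i).isOpen.preimage (fibπ p Ω).continuous) (Set.subset_univ _)⟩
      rw [← hr, isIrreducible_preimage_chart_iff p Ω (e i) (he i)] at hirr
      obtain ⟨a, ha, hL⟩ := exists_isPrime_nilradical (B := B i) Ω hΩ hirr
      refine ⟨a, ha, fun L _ _ hLa _ => ⟨?_, hi⟩⟩
      rw [← hr, isIrreducible_preimage_chart_iff p L (e i) (he i)]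
      exact hL L hLa
    · have hq : (e i ≫ p) = sp A (B i) := he i
      have h0 : IsEmpty ↑(fib (e i ≫ p) Ω) := by
        rw [← not_nonempty_iff, ← nonempty_preimage_iff, hr]
        exact hi
      have : LocallyOfFiniteType (e i ≫ p) := inferInstance
      have : QuasiCompact (e i ≫ p) := by rw [hq]; infer_instance
      obtain ⟨a, ha, hL⟩ := isEmpty_fib (e i ≫ p) Ω hΩ h0
      refine ⟨a, ha, fun L _ _ hLa hne => ?_⟩
      rw [← hr, nonempty_preimage_iff] at hne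
      exact ((hL L hLa).false hne.some).elim
  choose a₁ ha₁ hL₁ using hchart
  -- pairs
  have hpair : ∀ q : Fin n × Fin n, ∃ a : A, a ≠ 0 ∧ ∀ (L : Type u) [Field L] [Algebra A L],
      algebraMap A L a ≠ 0 → (fibπ p Ω ⁻¹' (W q.1 : Set Z)).Nonempty →
        (fibπ p Ω ⁻¹' (W q.2 : Set Z)).Nonempty →
          (fibπ p L ⁻¹' (W q.1 : Set Z) ∩ fibπ p L ⁻¹' (W q.2 : Set Z)).Nonempty := fun q => by
    by_cases hq : (fibπ p Ω ⁻¹' (W q.1 : Set Z)).Nonempty ∧ (fibπ p Ω ⁻¹' (W q.2 : Set Z)).Nonempty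
    · obtain ⟨x, hx1, hx2⟩ := nonempty_preirreducible_inter
        ((W q.1).isOpen.preimage (fibπ p Ω).continuous) ((W q.2).isOpen.preimage (fibπ p Ω).continuous)
        hq.1 hq.2
      let U := W q.1 ⊓ W q.2
      have hU : Nonempty ↑(fib (U.ι ≫ p) Ω) := by
        rw [← nonempty_preimage_iff]
        exact ⟨x, show fibπ p Ω x ∈ Set.range U.ι by rw [Scheme.Opens.range_ι]; exact ⟨hx1, hx2⟩⟩
      obtain ⟨a, ha, hL⟩ := nonempty_fib (U.ι ≫ p) Ω hΩ hU
      refine ⟨a, ha, fun L _ _ hLa _ _ => ?_⟩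
      obtain ⟨y, hy⟩ := (nonempty_preimage_iff p L U.ι).2 (hL L hLa)
      rw [Set.mem_preimage, Scheme.Opens.range_ι] at hy
      exact ⟨y, hy.1, hy.2⟩
    · exact ⟨1, one_ne_zero, fun L _ _ _ h1 h2 => (hq ⟨h1, h2⟩).elim⟩
  choose a₂ ha₂ hL₂ using hpair
  refine ⟨a₀ * (∏ i, a₁ i) * ∏ q, a₂ q, mul_ne_zero (mul_ne_zero ha₀
    (Finset.prod_ne_zero_iff.2 fun i _ => ha₁ i)) (Finset.prod_ne_zero_iff.2 fun i _ => ha₂ i),
    fun L _ _ hLa => ?_⟩
  simp only [map_mul, mul_ne_zero_iff, map_prod, Finset.prod_ne_zero_iff] at hLa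
  obtain ⟨⟨h0, h1⟩, h2⟩ := hLa
  refine isIrreducible_univ_of_cover (U := fun i => fibπ p L ⁻¹' (W i : Set Z)) (hne₀ L h0)
    (fun i => (W i).isOpen.preimage (fibπ p L).continuous)
    (fun i hi => (hL₁ i L (h1 i (Finset.mem_univ i)) hi).1) (fun x => hcov _) fun i j hi hj => ?_
  exact hL₂ (i, j) L (h2 _ (Finset.mem_univ _)) (hL₁ i L (h1 i (Finset.mem_univ i)) hi).2
    (hL₁ j L (h1 j (Finset.mem_univ j)) hj).2

/-- The closed subscheme on a closed set. -/
theorem exists_closedImmersion (T : Set Z) (hT : IsClosed T) :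
    ∃ (W : Scheme.{u}) (i : W ⟶ Z), IsClosedImmersion i ∧ Set.range i = T :=
  ⟨_, (Scheme.IdealSheafData.vanishingIdeal ⟨T, hT⟩).subschemeι, inferInstance, by
    rw [Scheme.IdealSheafData.range_subschemeι, Scheme.IdealSheafData.coe_support_vanishingIdeal]
    rfl⟩

omit [IsAlgClosed Ω] in
theorem nonempty_preimage_diff [LocallyOfFiniteType p] (hΩ : Function.Injective (algebraMap A Ω))
    (S T : Set Z) (hS : IsClosed S) (hT : IsClosed T) (h : (fibπ p Ω ⁻¹' (S \ T)).Nonempty) :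
    ∃ a : A, a ≠ 0 ∧ ∀ (L : Type u) [Field L] [Algebra A L], algebraMap A L a ≠ 0 →
      (fibπ p L ⁻¹' (S \ T)).Nonempty := by
  obtain ⟨W, i, hi, hr⟩ := exists_closedImmersion S hS
  let U : W.Opens := ⟨i ⁻¹' Tᶜ, hT.isOpen_compl.preimage i.continuous⟩
  have hrange : Set.range (U.ι ≫ i) = S \ T := by
    ext z
    constructor
    · rintro ⟨u, rfl⟩
      exact ⟨hr.subset ⟨_, rfl⟩, u.2⟩
    · rintro ⟨hzS, hzT⟩
      rw [← hr] at hzS
      obtain ⟨w, rfl⟩ := hzS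
      exact ⟨⟨w, hzT⟩, rfl⟩
  rw [← hrange, nonempty_preimage_iff] at h
  obtain ⟨a, ha, hL⟩ := nonempty_fib ((U.ι ≫ i) ≫ p) Ω hΩ h
  refine ⟨a, ha, fun L _ _ hLa => ?_⟩
  rw [← hrange, nonempty_preimage_iff]
  exact hL L hLa

/-- A finite pattern of closed sets giving the components of the geometric generic fibre gives those
of all nearby fibres. -/
theorem exists_near [LocallyOfFiniteType p] [QuasiCompact p] (hΩ : Function.Injective (algebraMap A Ω))
    {n : ℕ} (T : Fin n → Set Z) (hT : ∀ k, IsClosed (T k))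
    (hirr : ∀ k, IsIrreducible (fibπ p Ω ⁻¹' T k))
    (hcov : ∀ x, ∃ k, fibπ p Ω x ∈ T k)
    (hnle : ∀ k l, fibπ p Ω ⁻¹' T k ⊆ fibπ p Ω ⁻¹' T l → k = l) :
    ∃ a : A, a ≠ 0 ∧ ∀ (L : Type u) [Field L] [Algebra A L], algebraMap A L a ≠ 0 →
      (∀ k, IsIrreducible (fibπ p L ⁻¹' T k)) ∧ (∀ x, ∃ k, fibπ p L x ∈ T k) ∧
      (∀ k l, fibπ p L ⁻¹' T k ⊆ fibπ p L ⁻¹' T l → k = l) ∧
      ∀ k l, (fibπ p L ⁻¹' T k ∩ fibπ p L ⁻¹' T l).Nonempty ↔
        (fibπ p Ω ⁻¹' T k ∩ fibπ p Ω ⁻¹' T l).Nonempty := by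
  classical
  have h1 : ∀ k, ∃ a : A, a ≠ 0 ∧ ∀ (L : Type u) [Field L] [Algebra A L], algebraMap A L a ≠ 0 →
      IsIrreducible (fibπ p L ⁻¹' T k) := fun k => by
    obtain ⟨W, i, hi, hr⟩ := exists_closedImmersion (T k) (hT k)
    have h := hirr k
    rw [← hr, isIrreducible_preimage_iff] at h
    obtain ⟨a, ha, hL⟩ := irreducibleSpace_fib (i ≫ p) Ω hΩ h
    refine ⟨a, ha, fun L _ _ hLa => ?_⟩
    rw [← hr, isIrreducible_preimage_iff]
    exact hL L hLa
  have h2 : ∀ q : Fin n × Fin n, ∃ a : A, a ≠ 0 ∧ ∀ (L : Type u) [Field L] [Algebra A L],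
      algebraMap A L a ≠ 0 → (q.1 ≠ q.2 → ¬ fibπ p L ⁻¹' T q.1 ⊆ fibπ p L ⁻¹' T q.2) ∧
      ((fibπ p L ⁻¹' T q.1 ∩ fibπ p L ⁻¹' T q.2).Nonempty ↔
        (fibπ p Ω ⁻¹' T q.1 ∩ fibπ p Ω ⁻¹' T q.2).Nonempty) := fun q => by
    have hd : ∃ a : A, a ≠ 0 ∧ ∀ (L : Type u) [Field L] [Algebra A L],
        algebraMap A L a ≠ 0 → q.1 ≠ q.2 → ¬ fibπ p L ⁻¹' T q.1 ⊆ fibπ p L ⁻¹' T q.2 := by
      by_cases hq : q.1 = q.2
      · exact ⟨1, one_ne_zero, fun L _ _ _ h => (h hq).elim⟩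
      · obtain ⟨x, hx1, hx2⟩ := Set.not_subset.1 fun h => hq (hnle _ _ h)
        obtain ⟨a, ha, hL⟩ := nonempty_preimage_diff p Ω hΩ _ _ (hT q.1) (hT q.2) ⟨x, hx1, hx2⟩
        refine ⟨a, ha, fun L _ _ hLa _ hsub => ?_⟩
        obtain ⟨y, hy1, hy2⟩ := hL L hLa
        exact hy2 (hsub hy1)
    obtain ⟨W, i, hi, hr⟩ := exists_closedImmersion (T q.1 ∩ T q.2) ((hT _).inter (hT _))
    have key : ∀ (L : Type u) [Field L] [Algebra A L],
        (fibπ p L ⁻¹' T q.1 ∩ fibπ p L ⁻¹' T q.2).Nonempty ↔ Nonempty ↑(fib (i ≫ p) L) :=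
      fun L _ _ => by rw [← Set.preimage_inter, ← hr, nonempty_preimage_iff]
    have hint : ∃ a : A, a ≠ 0 ∧ ∀ (L : Type u) [Field L] [Algebra A L],
        algebraMap A L a ≠ 0 → ((fibπ p L ⁻¹' T q.1 ∩ fibπ p L ⁻¹' T q.2).Nonempty ↔
        (fibπ p Ω ⁻¹' T q.1 ∩ fibπ p Ω ⁻¹' T q.2).Nonempty) := by
      by_cases hq : Nonempty ↑(fib (i ≫ p) Ω)
      · obtain ⟨a, ha, hL⟩ := nonempty_fib (i ≫ p) Ω hΩ hq
        exact ⟨a, ha, fun L _ _ hLa => by rw [key, key]; exact iff_of_true (hL L hLa) hq⟩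
      · obtain ⟨a, ha, hL⟩ := isEmpty_fib (i ≫ p) Ω hΩ (not_nonempty_iff.1 hq)
        exact ⟨a, ha, fun L _ _ hLa => by
          rw [key, key]; exact iff_of_false (not_nonempty_iff.2 (hL L hLa)) hq⟩
    obtain ⟨a, ha, hL⟩ := hd
    obtain ⟨b, hb, hL'⟩ := hint
    refine ⟨a * b, mul_ne_zero ha hb, fun L _ _ hLab => ?_⟩
    rw [map_mul, mul_ne_zero_iff] at hLab
    exact ⟨hL L hLab.1, hL' L hLab.2⟩
  obtain ⟨a₃, ha₃, hL₃⟩ := preimage_eq_univ p Ω hΩ (⋃ k, T k) (isClosed_iUnion_of_finite hT)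
    (Set.eq_univ_of_forall fun x => Set.mem_iUnion.2 (hcov x))
  choose a₁ ha₁ hL₁ using h1
  choose a₂ ha₂ hL₂ using h2
  refine ⟨(∏ k, a₁ k) * (∏ q, a₂ q) * a₃, mul_ne_zero (mul_ne_zero
    (Finset.prod_ne_zero_iff.2 fun i _ => ha₁ i) (Finset.prod_ne_zero_iff.2 fun i _ => ha₂ i)) ha₃,
    fun L _ _ hLa => ?_⟩
  simp only [map_mul, mul_ne_zero_iff, map_prod, Finset.prod_ne_zero_iff] at hLa
  obtain ⟨⟨h1', h2'⟩, h3'⟩ := hLa
  refine ⟨fun k => hL₁ k L (h1' k (Finset.mem_univ k)),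
    fun x => Set.mem_iUnion.1 ((Set.ext_iff.1 (hL₃ L h3') x).2 trivial), fun k l h => ?_,
    fun k l => (hL₂ (k, l) L (h2' _ (Finset.mem_univ _))).2⟩
  by_contra hne
  exact (hL₂ (k, l) L (h2' _ (Finset.mem_univ _))).1 hne h

omit [IsDomain A] [IsAlgClosed Ω] in
theorem exists_finset_range {B : Type u} [CommRing B] [Algebra A B] (z : Ω ⊗[A] B) :
    ∃ S : Finset Ω, ∀ R : Subalgebra A Ω, (S : Set Ω) ⊆ R →
      z ∈ Set.range (Algebra.TensorProduct.map R.val (AlgHom.id A B)) := by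
  classical
  induction z using TensorProduct.induction_on with
  | zero => exact ⟨∅, fun R _ => ⟨0, map_zero _⟩⟩
  | tmul w b =>
    exact ⟨{w}, fun R hR => ⟨(⟨w, hR (by simp)⟩ : R) ⊗ₜ b, by simp⟩⟩
  | add x y hx hy =>
    obtain ⟨S, hS⟩ := hx
    obtain ⟨S', hS'⟩ := hy
    refine ⟨S ∪ S', fun R hR => ?_⟩
    rw [Finset.coe_union, Set.union_subset_iff] at hR
    obtain ⟨x', hx'⟩ := hS R hR.1
    obtain ⟨y', hy'⟩ := hS' R hR.2
    exact ⟨x' + y', by rw [map_add, hx', hy']⟩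

omit [IsDomain A] [IsAlgClosed Ω] in
theorem chartMap_toBC {B : Type u} [CommRing B] [Algebra A B] (R : Subalgebra A Ω)
    (e : Spec (CommRingCat.of B) ⟶ Z) (he : e ≫ p = sp A B) :
    chartMap p Ω e he ≫ toBC p Ω R =
      Spec.map (CommRingCat.ofHom (Algebra.TensorProduct.map R.val (AlgHom.id A B)).toRingHom) ≫
        chartMap p R e he := by
  apply pullback.hom_ext
  · rw [Category.assoc, toBC_fst, chartMap_fst, Category.assoc, chartMap_fst, ← Category.assoc,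
      ← Spec.map_comp]
    congr 2
  · rw [Category.assoc, toBC, pullback.lift_snd, chartMap, pullback.lift_snd_assoc, Category.assoc,
      chartMap, pullback.lift_snd, ← Spec.map_comp, ← Spec.map_comp]
    congr 1

omit [IsDomain A] [IsAlgClosed Ω] in
/-- The irreducible components of the generic geometric fibre are cut out by closed subsets of the
base change to a finite type algebra inside `Ω`. -/
theorem exists_pieces [LocallyOfFiniteType p] [QuasiCompact p] :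
    ∃ (R : Subalgebra A Ω) (_ : Algebra.FiniteType A R) (n : ℕ) (T : Fin n → Set ↑(fib p R)),
      (∀ k, IsClosed (T k)) ∧ (∀ k, IsIrreducible (toBC p Ω R ⁻¹' T k)) ∧
      (∀ x, ∃ k, toBC p Ω R x ∈ T k) ∧
      ∀ k l, toBC p Ω R ⁻¹' T k ⊆ toBC p Ω R ⁻¹' T l → k = l := by
  classical
  obtain ⟨m, W, hW, hcov⟩ := exists_charts p
  choose B _ _ e hB he₁ hr he using fun i => exists_chart p (hW i)
  have : IsLocallyNoetherian (fib p Ω) :=
    LocallyOfFiniteType.isLocallyNoetherian (pullback.snd p (sp A Ω))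
  have : CompactSpace ↑(fib p Ω) :=
    QuasiCompact.compactSpace_of_compactSpace (pullback.snd p (sp A Ω))
  have : IsNoetherian (fib p Ω) := {}
  have hfin : Finite (irreducibleComponents ↑(fib p Ω)) :=
    NoetherianSpace.finite_irreducibleComponents.to_subtype
  obtain ⟨n, ⟨en⟩⟩ := Finite.exists_equiv_fin (irreducibleComponents ↑(fib p Ω))
  let C : Fin n → Set ↑(fib p Ω) := fun k => (en.symm k).1
  have hCc : ∀ k, IsClosed (C k) := fun k => isClosed_of_mem_irreducibleComponents _ (en.symm k).2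
  have hI : ∀ q : Fin n × Fin m, ∃ G : Finset (Ω ⊗[A] B q.2),
      chartMap p Ω (e q.2) (he q.2) ⁻¹' C q.1 = PrimeSpectrum.zeroLocus (G : Set (Ω ⊗[A] B q.2)) :=
    fun q => by
      obtain ⟨I, hI⟩ := (PrimeSpectrum.isClosed_iff_zeroLocus_ideal _).1
        ((hCc q.1).preimage (chartMap p Ω (e q.2) (he q.2)).continuous)
      have : IsNoetherianRing (Ω ⊗[A] B q.2) := Algebra.FiniteType.isNoetherianRing Ω _
      obtain ⟨G, hG⟩ := (isNoetherianRing_iff_ideal_fg _).1 this I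
      exact ⟨G, by rw [hI, ← hG]; exact PrimeSpectrum.zeroLocus_span _⟩
  choose G hG using hI
  choose S hS using fun (q : Fin n × Fin m) (g : Ω ⊗[A] B q.2) => exists_finset_range Ω g
  let coefs : Finset Ω := Finset.univ.biUnion fun q : Fin n × Fin m => (G q).biUnion fun g => S q g
  let R := Algebra.adjoin A (coefs : Set Ω)
  have : Algebra.FiniteType A R :=
    (Subalgebra.fg_iff_finiteType R).1 (Subalgebra.fg_adjoin_finset coefs)
  have hpre : ∀ k, toBC p Ω R ⁻¹' closure (toBC p Ω R '' C k) = C k := fun k => by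
    refine Set.Subset.antisymm (fun x hx => by_contra fun hxC => ?_) fun x hx =>
      subset_closure ⟨x, hx, rfl⟩
    obtain ⟨i, hi⟩ := hcov (fibπ p Ω x)
    obtain ⟨w, rfl⟩ : x ∈ Set.range (chartMap p Ω (e i) (he i)) := by
      rw [range_chartMap]
      show fibπ p Ω x ∈ Set.range (e i)
      rw [hr]
      exact hi
    have hw : w ∉ PrimeSpectrum.zeroLocus (G (k, i) : Set (Ω ⊗[A] B i)) := by
      rw [← hG (k, i)]
      exact hxC
    obtain ⟨g, hg, hgw⟩ := Set.not_subset.1 hw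
    obtain ⟨g', hg'⟩ := hS (k, i) g R fun s hs => Algebra.subset_adjoin (by
      simp only [coefs, Finset.coe_biUnion, Set.mem_iUnion]
      exact ⟨(k, i), Finset.mem_coe.2 (Finset.mem_univ _), g, hg, hs⟩)
    have := isOpenImmersion_chartMap p R (e i) (he i)
    let O := chartMap p R (e i) (he i) '' (PrimeSpectrum.basicOpen g' : Set (PrimeSpectrum _))
    have hO : IsOpen O :=
      (chartMap p R (e i) (he i)).isOpenEmbedding.isOpenMap _ (PrimeSpectrum.basicOpen g').isOpen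
    have hcomm : ∀ v, toBC p Ω R (chartMap p Ω (e i) (he i) v) =
        chartMap p R (e i) (he i)
          (Spec.map (CommRingCat.ofHom
            (Algebra.TensorProduct.map R.val (AlgHom.id A (B i))).toRingHom) v) := fun v =>
      congrArg (fun f : Spec (CommRingCat.of (Ω ⊗[A] B i)) ⟶ fib p R => f v)
        (chartMap_toBC p Ω R (e i) (he i))
    have hxO : toBC p Ω R (chartMap p Ω (e i) (he i) w) ∈ O := by
      refine ⟨_, ?_, (hcomm w).symm⟩
      intro hmem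
      apply hgw
      show g ∈ w.asIdeal
      rw [← hg']
      exact hmem
    obtain ⟨-, hy, c, hc, rfl⟩ := mem_closure_iff.1 hx O hO hxO
    obtain ⟨v, rfl⟩ : c ∈ Set.range (chartMap p Ω (e i) (he i)) := by
      rw [range_chartMap]
      show fibπ p Ω c ∈ Set.range (e i)
      have h1 : toBC p Ω R c ∈ Set.range (chartMap p R (e i) (he i)) := Set.image_subset_range _ _ hy
      rw [range_chartMap] at h1
      have h2 := congrArg (fun f : fib p Ω ⟶ Z => f c) (toBC_fst p Ω R)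
      exact (congrArg (· ∈ Set.range (e i)) h2).mp h1
    obtain ⟨u, hu, hue⟩ := hy
    obtain rfl := (chartMap p R (e i) (he i)).isOpenEmbedding.injective (hue.trans (hcomm v))
    refine hu ?_
    show Algebra.TensorProduct.map R.val (AlgHom.id A (B i)) g' ∈ v.asIdeal
    rw [hg']
    exact (Set.ext_iff.1 (hG (k, i)) v).1 hc hg
  refine ⟨R, this, n, fun k => closure (toBC p Ω R '' C k), fun k => isClosed_closure, fun k => ?_,
    fun x => ?_, fun k l h => ?_⟩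
  · rw [hpre]
    exact (en.symm k).2.1
  · refine ⟨en ⟨_, irreducibleComponent_mem_irreducibleComponents x⟩, subset_closure ⟨x, ?_, rfl⟩⟩
    simp only [C, Equiv.symm_apply_apply]
    exact mem_irreducibleComponent
  · rw [hpre, hpre] at h
    exact en.symm.injective (Subtype.ext
      (((en.symm k).2.eq_of_le (en.symm l).2.1 h)))

end Groth.Agent.H46.GeomSpread
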